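import Cfsg.Agent.Known.DFourCover.Conj
import Cfsg.Agent.Chev.FixedPoints

/-! The Bruhat cells outside the parabolic subgroup meet `V · L · U` in elements of the Levi complement
with prescribed parameter. -/

set_option autoImplicit false
set_option linter.unusedSectionVars false

open Cfsg.Lie

namespace Cfsg.Lib.DFourCover

open Cfsg.Lib.Chev
open Cfsg.Lib.GTwoOdd (hom_ext dM mat_dM dconj mat_dconj dl dl_val glD toG toG_val dl_toG dl_glD)

variable {K : Type*} [Field K] [Fintype K]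

local notation "GG" => GL chevD4.Idx K

theorem uM_mul_wM {F : Type*} [Field F] (a : Fˣ) :
    (uM (a : F) * wM : Matrix.SpecialLinearGroup (Fin 2) F) = lM (a : F)⁻¹ * dM (-a) * uM (-(a : F)⁻¹) := by
  apply mat_inj
  simp only [mat_mul, mat_uM, mat_wM, mat_lM, mat_dM, Units.val_neg]
  ext i j
  fin_cases i <;> fin_cases j <;> simp [Matrix.mul_apply, Fin.sum_univ_two]

/-- The word carrying the fixed class to the highest root. -/
def WF : List (Fin chevD4.rank) := WB ++ WA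
/-- The word of the reflection in the highest root. -/
def WR : List (Fin chevD4.rank) := WF ++ WB ++ invW WF

theorem WR_decomp : (List.range 24).map (wl (invW (WA ++ WR ++ WB) ++ WD)) = List.range 24 := by decide +kernel

theorem WF_vals : wl WF 14 = 23 ∧ wl WF 9 = 0 := by decide +kernel

theorem orbit_vals : [18, 13, 12].map (wl WM) = [17, 20, 21] ∧ [5, 10, 11].map (wl WM) = [6, 3, 2] ∧
    (∀ r ∈ [18, 13, 12], wl (invW WB) r ∈ [15, 16, 19]) ∧
    (∀ r ∈ [5, 10, 11], wl WB r ∈ [4, 7, 8]) := by decide +kernel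

theorem WM_vals : wl WM 18 = 17 ∧ wl WM 13 = 20 ∧ wl WM 12 = 21 ∧ wl WM 5 = 6 ∧ wl WM 10 = 3 ∧ wl WM 11 = 2 := by
  have h := orbit_vals.1
  have h' := orbit_vals.2.1
  simp only [List.map_cons, List.map_nil, List.cons.injEq, and_true] at h h'
  exact ⟨h.1, h.2.1, h.2.2, h'.1, h'.2.1, h'.2.2⟩

theorem low_terms : ∀ s ∈ [5, 10, 11], ∀ r ∈ [14, 15, 16, 19], r ≠ s ∧ r ≠ chevD4.neg s ∧
    ∀ q ∈ chevD4.commTerms s r, q.1 ∈ [14, 15, 16, 19] := by decide +kernel

/-- The subgroup of the roots of height one and two reached from the class of height two. -/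
noncomputable def HC (K : Type*) [Field K] : Subgroup (GL chevD4.Idx K) :=
  Subgroup.closure {g | ∃ r ∈ [14, 15, 16, 19], ∃ t : K, g = xx r t}

theorem xx_mem_HC {r : ℕ} (hr : r ∈ [14, 15, 16, 19]) (t : K) : (xx r t : GG) ∈ HC K :=
  Subgroup.subset_closure ⟨r, hr, t, rfl⟩

theorem HC_le_pos : HC K ≤ chevD4.posUnipotent K := by
  refine (Subgroup.closure_le _).2 ?_
  rintro g ⟨r, hr, t, rfl⟩
  simp only [List.mem_cons, List.not_mem_nil, or_false] at hr
  exact S4.xG_mem_U (by rw [d4_vals.2.2]; omega) (lt24 (by omega)) t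

theorem HC_conj {s : ℕ} (hs : s ∈ [5, 10, 11]) (t : K) {g : GG} (hg : g ∈ HC K) :
    xx s t * g * (xx s t)⁻¹ ∈ HC K := by
  have hle : HC K ≤ (HC K).comap (MulAut.conj (xx s t : GG)).toMonoidHom := by
    refine (Subgroup.closure_le _).2 ?_
    rintro x ⟨r, hr, v, rfl⟩
    obtain ⟨a, b, c⟩ := low_terms s hs r hr
    have hs' : s < 24 := by simp at hs; omega
    have hr' : r < 24 := by simp at hr; omega
    show xx s t * xx r v * (xx s t)⁻¹ ∈ HC K
    rw [conj_root hs' hr' a b]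
    refine mul_mem (xx_mem_HC hr v) (list_prod_mem fun y hy => ?_)
    obtain ⟨q, hq, rfl⟩ := List.mem_map.1 hy
    obtain ⟨q', hq', rfl⟩ := List.mem_map.1 hq
    exact xx_mem_HC (c q' hq') _
  exact hle hg

theorem swap_two (h2 : (2 : K) = 0) {r s q : ℕ} {m : ℤ} (hr : r < 24) (hs : s < 24) (h1 : s ≠ r)
    (hn : s ≠ chevD4.neg r) (ht : chevD4.commTerms r s = [(q, (m, (1, 1)))]) (hm : m = 1 ∨ m = -1) (t u : K) :
    (xx s u * xx r t : GG) = xx r t * xx s u * xx q (u * t) := by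
  have e := S4.ok.commRel S4.chain S4.base (lt24 hr) (lt24 hs) h1 hn t u
  have e2 : ∀ z : K, -z = z := fun z => by linear_combination -z * h2
  rw [ChevalleyDatum.commWord, ht] at e
  simp only [Ok.wG, List.map_cons, List.map_nil, List.prod_cons, List.prod_nil, mul_one, pow_one] at e
  show S4.ok.xG s u * S4.ok.xG r t = S4.ok.xG r t * S4.ok.xG s u * S4.ok.xG q (u * t)
  rw [e]
  refine congrArg (fun z : K => S4.ok.xG r t * S4.ok.xG s u * S4.ok.xG q z) ?_
  rcases hm with rfl | rfl <;> simp [e2, mul_comm]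

theorem even_pairs : ∀ p ∈ [(6, 22, 18), (3, 18, 8), (3, 22, 13), (2, 18, 7), (2, 13, 4), (2, 22, 12), (7, 13, 9)],
    p.1 < 24 ∧ p.2.1 < 24 ∧ p.2.1 ≠ p.1 ∧ p.2.1 ≠ chevD4.neg p.1 ∧
      ∃ m ∈ [(1 : ℤ), -1], chevD4.commTerms p.1 p.2.1 = [(p.2.2, (m, (1, 1)))] := by
  decide +kernel

theorem even_comm : ∀ p ∈ [(22, 8), (13, 8), (18, 8), (22, 4), (12, 4), (13, 4), (18, 7), (22, 7), (12, 7),
    (22, 9), (12, 9), (13, 9)], p.1 < 24 ∧ p.2 < 24 ∧ TwDat.commOK chevD4 p.1 p.2 = true := by decide +kernel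

theorem even_identity (h2 : (2 : K) = 0) (b x y z : K) :
    (xx 22 b * (xx 6 x * xx 3 y * xx 2 z) : GG) =
      xx 6 x * xx 3 y * xx 8 (b * x * y) * xx 2 z * xx 4 (b * y * z) * xx 7 (b * x * z) *
        xx 9 (b * y * (b * x * z)) * (xx 22 b * xx 12 (b * z) * xx 13 (b * y) * xx 18 (b * x)) := by
  have sw : ∀ {r s q : ℕ}, (r, s, q) ∈
      [(6, 22, 18), (3, 18, 8), (3, 22, 13), (2, 18, 7), (2, 13, 4), (2, 22, 12), (7, 13, 9)] → ∀ (t u : K) (g : GG),
      xx s u * (xx r t * g) = xx r t * (xx s u * (xx q (u * t) * g)) := by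
    intro r s q hp t u g
    obtain ⟨a, b, c, d, m, hm, e⟩ := even_pairs _ hp
    simp only [List.mem_cons, List.not_mem_nil, or_false] at hm
    rw [← mul_assoc, swap_two h2 a b c d e hm t u]
    simp only [mul_assoc]
  have cm : ∀ {r s : ℕ}, (r, s) ∈ [(22, 8), (13, 8), (18, 8), (22, 4), (12, 4), (13, 4), (18, 7), (22, 7), (12, 7),
      (22, 9), (12, 9), (13, 9)] → ∀ (t u : K) (g : GG), xx r t * (xx s u * g) = xx s u * (xx r t * g) := by
    intro r s hp t u g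
    obtain ⟨a, b, c⟩ := even_comm _ hp
    rw [← mul_assoc, (commute_xx a b c t u).eq, mul_assoc]
  rw [← mul_one (xx 2 z)]
  simp only [mul_assoc, one_mul]
  rw [sw (r := 6) (s := 22) (q := 18) (by simp), sw (r := 3) (s := 18) (q := 8) (by simp),
    sw (r := 3) (s := 22) (q := 13) (by simp)]
  rw [cm (r := 18) (s := 8) (by simp), cm (r := 13) (s := 8) (by simp), cm (r := 22) (s := 8) (by simp)]
  rw [sw (r := 2) (s := 18) (q := 7) (by simp), sw (r := 2) (s := 13) (q := 4) (by simp),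
    sw (r := 2) (s := 22) (q := 12) (by simp)]
  rw [cm (r := 13) (s := 4) (by simp), cm (r := 12) (s := 4) (by simp), cm (r := 22) (s := 4) (by simp)]
  rw [cm (r := 18) (s := 7) (by simp), sw (r := 7) (s := 13) (q := 9) (by simp), cm (r := 12) (s := 7) (by simp),
    cm (r := 22) (s := 7) (by simp)]
  rw [cm (r := 13) (s := 9) (by simp), cm (r := 12) (s := 9) (by simp), cm (r := 22) (s := 9) (by simp)]
  simp only [mul_assoc, mul_one]

variable (X : XD K)

local notation "k" => kF X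
local notation "SL2K" => Matrix.SpecialLinearGroup (Fin 2) K
local notation "SL2k" => Matrix.SpecialLinearGroup (Fin 2) (kF X)
local notation "GL2k" => GL (Fin 2) (kF X)
local notation "M2" => Matrix (Fin 2) (Fin 2) (kF X)

theorem fA_uM_U1 (t : K) : fA X (uM t) ∈ U1 X := by
  refine Subgroup.mem_inf.2 ⟨?_, fA_mem X _⟩
  rw [fA_uM]
  exact mul_mem (mul_mem (xx_mem_UD (by norm_num) (by norm_num) (by norm_num) _)
    (xx_mem_UD (by norm_num) (by norm_num) (by norm_num) _)) (xx_mem_UD (by norm_num) (by norm_num) (by norm_num) _)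

theorem fA_lM_V1 (t : K) : fA X (lM t) ∈ V1 X := by
  refine Subgroup.mem_inf.2 ⟨?_, fA_mem X _⟩
  rw [fA_lM]
  exact mul_mem (mul_mem (xx_mem_VD (by norm_num) (by norm_num) _) (xx_mem_VD (by norm_num) (by norm_num) _))
    (xx_mem_VD (by norm_num) (by norm_num) _)

theorem fD_uM_U1 (t : K) : fD X (uM t) ∈ U1 X := by
  refine Subgroup.mem_inf.2 ⟨?_, fD_mem X _⟩
  obtain ⟨a, b, c, -, -, -⟩ := WM_vals
  rw [fD_uM, a, b, c]
  exact mul_mem (mul_mem (xx_mem_UD (by norm_num) (by norm_num) (by norm_num) _)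
    (xx_mem_UD (by norm_num) (by norm_num) (by norm_num) _)) (xx_mem_UD (by norm_num) (by norm_num) (by norm_num) _)

theorem Lam_conjV (p : ↥(LP X)) {v : GG} (hv : v ∈ V1 X) : Lam X p * v * (Lam X p)⁻¹ ∈ V1 X := by
  obtain ⟨u, hu, rfl⟩ := mem_V1 X hv
  have h : Lam X p = n0 * (Lam X (trP X p))⁻¹ * (n0 : GG)⁻¹ := by rw [← n0_Lam]; group
  have hu' : (Lam X (trP X p))⁻¹ * u * Lam X (trP X p) ∈ U1 X := Lam_conj' X _ hu
  refine Subgroup.mem_inf.2 ⟨mem_VD.2 ⟨_, (Subgroup.mem_inf.1 hu').1, ?_⟩,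
    mul_mem (mul_mem (Lam_mem X p) (mul_mem (mul_mem (n0_mem X) (U1_le_G1 X hu)) (inv_mem (n0_mem X))))
      (inv_mem (Lam_mem X p))⟩
  rw [h]; group

/-- The `SL₂` of the highest root. -/
noncomputable def fF : SL2k →* GG := (MulAut.conj (nw WF : GG)).toMonoidHom.comp (fb X)

theorem fF_apply (Y : SL2k) : fF X Y = nw WF * fb X Y * (nw WF : GG)⁻¹ := rfl

theorem nw_WF_mem : (nw WF : GG) ∈ X.G1 := by
  rw [WF, nw_append, nw_WA X, nw_WB X]; exact mul_mem (fb_mem X _) (fA_mem X _)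

theorem fF_mem (Y : SL2k) : fF X Y ∈ X.G1 :=
  mul_mem (mul_mem (nw_WF_mem X) (fb_mem X Y)) (inv_mem (nw_WF_mem X))

theorem fF_uM (t : k) : fF X (uM t) = xx 23 ((sg WF 14 : K) * (t : K)) := by
  rw [fF_apply, fb_uM, nw_xx WF (by norm_num), WF_vals.1]

theorem fF_lM (t : k) : fF X (lM t) = xx 0 ((sg WF 9 : K) * (t : K)) := by
  rw [fF_apply, fb_lM, nw_xx WF (by norm_num), WF_vals.2]

theorem AF_comm : ∀ r ∈ [18, 13, 12, 5, 10, 11], ∀ s ∈ [23, 0], r < 24 ∧ s < 24 ∧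
    TwDat.commOK chevD4 r s = true := by decide +kernel

theorem fA_fF (A : SL2K) (Y : SL2k) : Commute (fA X A) (fF X Y) := by
  have h : ∀ r ∈ [18, 13, 12, 5, 10, 11], ∀ t : K, Commute (xx r t) (fF X Y) := fun r hr t => by
    refine hom_commute (fun u => ?_) (fun u => ?_) Y
    · obtain ⟨a, b, c⟩ := AF_comm r hr 23 (by simp)
      rw [fF_uM]; exact commute_xx a b c _ _
    · obtain ⟨a, b, c⟩ := AF_comm r hr 0 (by simp)
      rw [fF_lM]; exact commute_xx a b c _ _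
  refine (hom_commute (fun u => ?_) (fun u => ?_) A).symm
  · rw [fA_uM]
    exact (((h 18 (by simp) _).symm.mul_right (h 13 (by simp) _).symm).mul_right (h 12 (by simp) _).symm)
  · rw [fA_lM]
    exact (((h 5 (by simp) _).symm.mul_right (h 10 (by simp) _).symm).mul_right (h 11 (by simp) _).symm)

/-- `n` meets `V · D · U` after a translation by an element of the radical. -/
def Decomp (n : GG) (D : ↥(LP X)) : Prop :=
  ∃ u ∈ U1 X, ∃ v ∈ V1 X, ∃ w ∈ U1 X, u * n = v * Lam X D * w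

/-- The cell of the fundamental reflection. -/
theorem decomp_sixty (c : Kˣ) : Decomp X (fA X wM) (hP X c) := by
  refine ⟨fA X (uM ((-c : Kˣ) : K)), fA_uM_U1 X _, fA X (lM ((-c : Kˣ) : K)⁻¹), fA_lM_V1 X _,
    fA X (uM (-((-c : Kˣ) : K)⁻¹)), fA_uM_U1 X _, ?_⟩
  rw [← map_mul, uM_mul_wM, map_mul, map_mul, neg_neg, Lam_hP, hA_apply, fA_dM]

/-- The monomial element of the middle cell. -/
noncomputable def n120 : GG := fA X (wM : SL2K) * fb X (wM : SL2k) * fA X (wM : SL2K)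

theorem decomp_onetwenty (c : Kˣ) : ∃ D : ↥(LP X), Decomp X (n120 X) D ∧ D.1.2 = c ∧
    ∃ p q s : k, p ≠ 0 ∧ q ≠ 0 ∧ (D.1.1 : M2) = !![0, p; q, s] := by
  have hb : fb X (wM : SL2k) = nw WB := (nw_WB X).symm
  set L1 := fA X (lM (c : K)⁻¹) with hL1
  set P1 := fA X (uM (-(c : K)⁻¹)) with hP1
  set N := fA X (lM ((1 : Kˣ) : K)⁻¹) with hN
  set P2 := fA X (uM (-((1 : Kˣ) : K)⁻¹)) with hP2
  have hPm : (fb X (wM : SL2k))⁻¹ * P1 * fb X wM ∈ HC K := by
    rw [hb, ← nw_invW, hP1, fA_uM]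
    have e : (nw WB : GG) = (nw (invW WB))⁻¹ := by rw [nw_invW, inv_inv]
    conv => arg 2; arg 2; rw [e]
    rw [nw_triple (invW WB) (by norm_num) (by norm_num) (by norm_num)]
    have h : ∀ r ∈ [18, 13, 12], wl (invW WB) r ∈ [14, 15, 16, 19] := fun r hr =>
      List.mem_cons_of_mem _ (orbit_vals.2.2.1 r hr)
    exact mul_mem (mul_mem (xx_mem_HC (h 18 (by simp)) _) (xx_mem_HC (h 13 (by simp)) _))
      (xx_mem_HC (h 12 (by simp)) _)
  set P := (fb X (wM : SL2k))⁻¹ * P1 * fb X wM with hPdef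
  have hQ : N⁻¹ * P * N ∈ HC K := by
    rw [hN, fA_lM]
    have := HC_conj (s := 11) (by simp) (-X.f (X.f ((1 : Kˣ) : K)⁻¹)) (HC_conj (s := 10) (by simp)
      (-X.f ((1 : Kˣ) : K)⁻¹) (HC_conj (s := 5) (by simp) (-((1 : Kˣ) : K)⁻¹) hPm))
    simp only [← xx_inv, inv_inv] at this
    simpa [mul_assoc] using this
  have hNG : N ∈ X.G1 := fA_mem X _
  have hPG : P ∈ X.G1 := mul_mem (mul_mem (inv_mem (fb_mem X _)) (fA_mem X _)) (fb_mem X _)
  obtain ⟨r, u', hu', eQ⟩ := pos_decomp X (HC_le_pos hQ) (mul_mem (mul_mem (inv_mem hNG) hPG) hNG)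
  have hN' : fb X (wM : SL2k) * N * (fb X wM)⁻¹ ∈ V1 X := by
    refine Subgroup.mem_inf.2 ⟨?_, mul_mem (mul_mem (fb_mem X _) hNG) (inv_mem (fb_mem X _))⟩
    rw [hb, hN, fA_lM, nw_triple WB (by norm_num) (by norm_num) (by norm_num)]
    have h : ∀ r ∈ [5, 10, 11], ∀ t : K, (xx (wl WB r) t : GG) ∈ VD K := fun r hr t => by
      have := orbit_vals.2.2.2 r hr
      simp only [List.mem_cons, List.not_mem_nil, or_false] at this
      exact xx_mem_VD (by omega) (by omega) t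
    exact mul_mem (mul_mem (h 5 (by simp) _) (h 10 (by simp) _)) (h 11 (by simp) _)
  refine ⟨hP X (-c) * toP X wM * toP X (uM r) * hP X (-1),
    ⟨fA X (uM (c : K)) * fD X (uM ((1 : Kˣ) : K)), mul_mem (fA_uM_U1 X _) (fD_uM_U1 X _),
      L1 * (Lam X (hP X (-c)) * (fb X (wM : SL2k) * N * (fb X wM)⁻¹) * (Lam X (hP X (-c)))⁻¹),
      mul_mem (fA_lM_V1 X _) (Lam_conjV X _ hN'),
      (Lam X (hP X (-1)))⁻¹ * u' * Lam X (hP X (-1)) * P2, mul_mem (Lam_conj' X _ hu') (fA_uM_U1 X _), ?_⟩,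
    ?_, ((Nk X (-1) : (kF X)ˣ) : k), -((Nk X (-c) : (kF X)ˣ) : k),
      -((Nk X (-c) : (kF X)ˣ) : k) * r * ((Nk X (-1) : (kF X)ˣ) : k), Units.ne_zero _, neg_ne_zero.2 (Units.ne_zero _), ?_⟩
  · have hA1 : Lam X (hP X (-c)) = fA X (dM (-c)) := by rw [Lam_hP, hA_apply, fA_dM]
    have hA2 : Lam X (hP X (-1)) = fA X (dM (-1)) := by rw [Lam_hP, hA_apply, fA_dM]
    calc fA X (uM (c : K)) * fD X (uM ((1 : Kˣ) : K)) * n120 X
        = fA X (uM (c : K) * wM) * fb X wM * fA X (uM ((1 : Kˣ) : K) * wM) := by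
          rw [map_mul, map_mul, n120, fD_apply, WM, nw_append, nw_WA X, nw_WB X]; group
      _ = L1 * Lam X (hP X (-c)) * (P1 * fb X wM) * N * Lam X (hP X (-1)) * P2 := by
          rw [uM_mul_wM, uM_mul_wM]
          simp only [map_mul, hA1, hA2, hL1, hP1, hN, hP2, mul_assoc]
      _ = L1 * Lam X (hP X (-c)) * (fb X wM * N * (N⁻¹ * P * N)) * Lam X (hP X (-1)) * P2 := by
          rw [hPdef]; group
      _ = _ := by
          rw [eQ]; simp only [map_mul, Lam_toP]; group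
  · show -c * 1 * 1 * -1 = c
    simp
  · simp only [Subgroup.coe_mul, Prod.fst_mul, hP_fst, toP_fst, Units.val_mul, glD_val', toG_val, mat_wM, mat_uM]
    ext i j
    fin_cases i <;> fin_cases j <;> simp [Matrix.mul_apply, Fin.sum_univ_two] <;> ring

/-- The monomial element of the last cell. -/
noncomputable def n180 : GG := fD X (wM : SL2K)

theorem fF_dM_T1 (s : (kF X)ˣ) : fF X (dM s) ∈ X.T1 := by
  rw [← X.diag_inf_G1 (D4.relOK X)]
  refine Subgroup.mem_inf.2 ⟨?_, fF_mem X _⟩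
  rw [fF_apply]
  refine S4.norm_diag (S4.nL_mem_mono (F := K) WF) ?_
  rw [fb_dM]
  exact X.T1_le_diag (tor_mem_T1 X 1 s)

theorem n180_split : ∃ t ∈ X.T1, n180 X = fA X wM * fF X wM * fb X wM * t := by
  refine ⟨(fA X wM * fF X wM * fb X wM)⁻¹ * n180 X, ?_, by group⟩
  rw [← X.diag_inf_G1 (D4.relOK X)]
  refine Subgroup.mem_inf.2 ⟨?_, mul_mem (inv_mem (mul_mem (mul_mem (fA_mem X _) (fF_mem X _)) (fb_mem X _)))
    (fD_mem X _)⟩
  have e : (fA X wM * fF X wM * fb X wM)⁻¹ * n180 X = nw (invW (WA ++ WR ++ WB) ++ WD) := by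
    rw [nw_append, nw_invW, nw_append, nw_append, WR, nw_append, nw_append, nw_invW, nw_WA X, nw_WB X,
      n180, fD_wM, fF_apply]
  rw [e]
  refine S4.nL_mem_diag _ _ rfl (Equiv.ext fun s => Fin.ext ?_)
  rw [S4.wpL_val]
  show wl (invW (WA ++ WR ++ WB) ++ WD) s.val = s.val
  exact List.map_eq_map_iff.1 (WR_decomp.trans (List.map_id _).symm) s.val
    (List.mem_range.2 (d4_vals.2.1 ▸ s.isLt))

theorem decomp_odd (c : Kˣ) : ∃ D : ↥(LP X), Decomp X (n180 X) D ∧ D.1.2 = c ∧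
    ∃ p q : k, (D.1.1 : M2) = !![0, p; q, 0] := by
  obtain ⟨t, ht, en⟩ := n180_split X
  obtain ⟨α, β, et⟩ := T1_Lam X ht
  obtain ⟨α', β', eh⟩ := T1_Lam X (fF_dM_T1 X (-1))
  set a : Kˣ := -(c * (α' * α)⁻¹) with ha
  set pt := toP X wM * (hP X α * toP X (dM β)) with hpt
  refine ⟨hP X (-a) * (hP X α' * toP X (dM β')) * pt,
    ⟨fA X (uM (a : K)) * fF X (uM 1), mul_mem (fA_uM_U1 X _) (Subgroup.mem_inf.2 ⟨?_, fF_mem X _⟩),
      fA X (lM (a : K)⁻¹) * fF X (lM 1), mul_mem (fA_lM_V1 X _) (Subgroup.mem_inf.2 ⟨?_, fF_mem X _⟩),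
      (Lam X pt)⁻¹ * (fA X (uM (-(a : K)⁻¹)) * fF X (uM (-1))) * Lam X pt,
      Lam_conj' X _ (mul_mem (fA_uM_U1 X _) (Subgroup.mem_inf.2 ⟨?_, fF_mem X _⟩)), ?_⟩, ?_, ?_⟩
  · rw [fF_uM]; exact xx_mem_UD (by norm_num) (by norm_num) (by norm_num) _
  · rw [fF_lM]; exact xx_mem_VD (by norm_num) (by norm_num) _
  · rw [fF_uM]; exact xx_mem_UD (by norm_num) (by norm_num) (by norm_num) _
  · have e1 : fF X (uM 1) * fF X wM = fF X (lM 1) * fF X (dM (-1)) * fF X (uM (-1)) := by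
      rw [← map_mul, ← map_mul, ← map_mul]
      congr 1
      simpa using uM_mul_wM (1 : (kF X)ˣ)
    have e2 : fA X (uM (a : K)) * fA X wM = fA X (lM (a : K)⁻¹) * fA X (dM (-a)) * fA X (uM (-(a : K)⁻¹)) := by
      rw [← map_mul, uM_mul_wM, map_mul, map_mul]
    calc fA X (uM (a : K)) * fF X (uM 1) * n180 X
        = fA X (uM (a : K)) * (fF X (uM 1) * fA X wM) * fF X wM * (fb X wM * t) := by rw [en]; group
      _ = (fA X (uM (a : K)) * fA X wM) * (fF X (uM 1) * fF X wM) * (fb X wM * t) := by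
          rw [← (fA_fF X _ _).eq]; group
      _ = fA X (lM (a : K)⁻¹) * (fA X (dM (-a)) * (fA X (uM (-(a : K)⁻¹)) * fF X (lM 1))) * fF X (dM (-1)) *
            fF X (uM (-1)) * (fb X wM * t) := by rw [e1, e2]; group
      _ = fA X (lM (a : K)⁻¹) * fF X (lM 1) * (fA X (dM (-a)) * (fA X (uM (-(a : K)⁻¹)) * fF X (dM (-1)))) *
            fF X (uM (-1)) * (fb X wM * t) := by
          rw [(fA_fF X _ _).eq, ← mul_assoc (fA X (dM (-a))) (fF X (lM 1)), (fA_fF X _ _).eq]; group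
      _ = fA X (lM (a : K)⁻¹) * fF X (lM 1) * (fA X (dM (-a)) * fF X (dM (-1)) * Lam X pt) *
            ((Lam X pt)⁻¹ * (fA X (uM (-(a : K)⁻¹)) * fF X (uM (-1))) * Lam X pt) := by
          have hl : Lam X pt = fb X wM * t := by rw [hpt, map_mul, Lam_toP, ← et]
          rw [(fA_fF X (uM (-(a : K)⁻¹)) (dM (-1))).eq, hl]; group
      _ = _ := by
          rw [map_mul (Lam X) _ pt, map_mul (Lam X) (hP X (-a)), Lam_hP, ← eh, hA_apply, fA_dM]
  · show -a * (α' * 1) * (1 * (α * 1)) = c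
    rw [ha, neg_neg, mul_one, one_mul, mul_one, mul_assoc, inv_mul_cancel_right]
  · have e : (((hP X (-a) * (hP X α' * toP X (dM β')) * pt).1.1 : GL2k) : M2) =
        !![0, (β' : k) * (((Nk X α : (kF X)ˣ) : k) * (β : k)⁻¹);
          -(((Nk X (-a) : (kF X)ˣ) : k) * (((Nk X α' : (kF X)ˣ) : k) * (β' : k)⁻¹) * (β : k)), 0] := by
      simp only [hpt, Subgroup.coe_mul, Prod.fst_mul, hP_fst, toP_fst, Units.val_mul, glD_val', toG_val, mat_wM,
        mat_dM]
      ext i j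
      fin_cases i <;> fin_cases j <;> simp [Matrix.mul_apply, Fin.sum_univ_two] <;> ring
    exact ⟨_, _, e⟩

theorem sq_inj (h2 : (2 : K) = 0) {a b : K} (e : a ^ 2 = b ^ 2) : a = b := by
  have : (a - b) * (a - b) = 0 := by linear_combination e + (b * b - a * b) * h2
  exact sub_eq_zero.1 (mul_self_eq_zero.1 this)

theorem decomp_even (h2 : (2 : K) = 0) (c : Kˣ) : ∃ (δ : (kF X)ˣ) (r0 : k), r0 ≠ 0 ∧ ∀ r : k, r = 0 ∨ r = r0 →
    ∃ D : ↥(LP X), Decomp X (n180 X) D ∧ D.1.2 = c ∧ (D.1.1 : M2) = mat (lM r) * ((δ : k) • (1 : M2)) := by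
  classical
  -- the torus of the class of height three
  have hT : ∀ e : Kˣ, ∃ (a : Kˣ) (b : (kF X)ˣ),
      fD X (dM e) = tor X a (Units.map (kF X).subtype.toMonoidHom b) ∧ b ^ 2 = Nk X a := by
    intro e
    have hm : fD X (dM e) ∈ X.T1 := by
      rw [← X.diag_inf_G1 (D4.relOK X)]
      refine Subgroup.mem_inf.2 ⟨?_, fD_mem X _⟩
      rw [fD_apply]
      refine S4.norm_diag (S4.nL_mem_mono (F := K) WM) ?_
      rw [fA_dM, tor, S4.ok.diagonalSubgroup_eq]
      exact ⟨_, rfl⟩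
    obtain ⟨a, b, hab⟩ := exists_tor X hm
    refine ⟨a, b, hab, ?_⟩
    have h1 : xx 14 (((chi X 14 a (Units.map (kF X).subtype.toMonoidHom b) : Kˣ) : K) * 1) =
        (xx 14 1 : GG) := by
      rw [← tor_conj X (by norm_num), ← hab, mul_inv_eq_iff_eq_mul, show (xx 14 (1 : K) : GG) = fb X (uM 1) by
        rw [fb_uM]; rfl, (fb_fD X _ _).eq]
    have h2' := S4.xG_left_inj (lt24 (by norm_num)) h1
    obtain ⟨-, -, -, c14, -⟩ := cc_vals
    simp [chi, c14, s1_val] at h2'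
    apply Units.ext
    apply Subtype.ext
    rw [Units.val_pow_eq_pow_val, SubmonoidClass.coe_pow, Nk_val]
    have := a.ne_zero
    field_simp at h2'
    linear_combination h2'
  choose ψ δ hψ hδ using hT
  have hinj : Function.Injective ψ := by
    intro e e' he
    have hb : δ e = δ e' := by
      apply Units.ext
      apply Subtype.ext
      refine sq_inj h2 ?_
      rw [← SubmonoidClass.coe_pow, ← SubmonoidClass.coe_pow, ← Units.val_pow_eq_pow_val,
        ← Units.val_pow_eq_pow_val, hδ, hδ, he]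
    have h1 : fA X (dM e) = fA X (dM e') := by
      have := (hψ e).trans ((congrArg₂ (fun a b => tor X a (Units.map (kF X).subtype.toMonoidHom b)) he hb).trans
        (hψ e').symm)
      rw [fD_apply, fD_apply] at this
      exact mul_left_cancel (mul_right_cancel this)
    rw [fA_dM, fA_dM] at h1
    have h3 : (xx 18 (((chi X 18 e 1 : Kˣ) : K) * 1) : GG) = xx 18 (((chi X 18 e' 1 : Kˣ) : K) * 1) := by
      rw [← tor_conj X (by norm_num), ← tor_conj X (by norm_num), h1]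
    have h4 := S4.xG_left_inj (lt24 (by norm_num)) h3
    obtain ⟨-, -, -, -, -, -, -, c18, -⟩ := cc_vals
    simp [chi, c18] at h4
    exact Units.ext (sq_inj h2 (by first | exact h4 | exact_mod_cast h4))
  obtain ⟨e, he⟩ := (Finite.injective_iff_surjective.1 hinj) c
  refine ⟨δ e, ((Nk X e⁻¹ : (kF X)ˣ) : k), Units.ne_zero _, fun r hr => ?_⟩
  obtain ⟨b, hb, hbr⟩ : ∃ b : K, X.f b = b ∧ b * b * ((Nk X e⁻¹ : (kF X)ˣ) : k) = (r : K) := by
    rcases hr with rfl | rfl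
    · exact ⟨0, map_zero _, by simp⟩
    · exact ⟨1, map_one _, by simp⟩
  have hneg : ∀ z : K, -z = z := fun z => by linear_combination -z * h2
  have he1 : (-e : Kˣ) = e := Units.ext (hneg _)
  set pd := hP X (ψ e) * toP X (dM (δ e)) with hpd
  have hpl : Lam X pd = fD X (dM e) := by
    rw [hψ, hpd, map_mul, Lam_hP, Lam_toP, hA_apply, fb_dM, ← tor_mul, one_mul, mul_one]
  set D := toP X (lM r) * pd with hD
  obtain ⟨m1, m2, m3, m4, m5, m6⟩ := WM_vals
  set x := (e : K)⁻¹ with hx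
  have hl : fD X (lM x) = xx 6 x * xx 3 (X.f x) * xx 2 (X.f (X.f x)) := by
    rw [fD_lM, m4, m5, m6, sg_char_two h2, sg_char_two h2, sg_char_two h2, one_mul, one_mul, one_mul]
  have h22 : (xx 22 b : GG) ∈ X.G1 := by
    refine X.xG_fixed_mem_G1 (lt24 (by norm_num)) (by rw [d4_vals.2.2]; norm_num) ?_ ?_ hb
    · show D4.tw.G.rho chevD4.rank 22 = 22
      decide +kernel
    · show ((D4.tw.G.eps chevD4.rank 22 : ℤ) : K) = 1
      rw [show D4.tw.G.eps chevD4.rank 22 = 1 by decide +kernel, Int.cast_one]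
  have hu : xx 22 b * fD X (uM (e : K)) ∈ U1 X :=
    mul_mem (Subgroup.mem_inf.2 ⟨xx_mem_UD (by norm_num) (by norm_num) (by norm_num) _, h22⟩) (fD_uM_U1 X _)
  set v0 : GG := xx 6 x * xx 3 (X.f x) * xx 8 (b * x * X.f x) * xx 2 (X.f (X.f x)) *
    xx 4 (b * X.f x * X.f (X.f x)) * xx 7 (b * x * X.f (X.f x)) with hv0
  set w0 : GG := xx 22 b * xx 12 (b * X.f (X.f x)) * xx 13 (b * X.f x) * xx 18 (b * x) with hw0
  have hv : v0 ∈ VD K := by
    rw [hv0]
    exact mul_mem (mul_mem (mul_mem (mul_mem (mul_mem (xx_mem_VD (by norm_num) (by norm_num) _)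
      (xx_mem_VD (by norm_num) (by norm_num) _)) (xx_mem_VD (by norm_num) (by norm_num) _))
      (xx_mem_VD (by norm_num) (by norm_num) _)) (xx_mem_VD (by norm_num) (by norm_num) _))
      (xx_mem_VD (by norm_num) (by norm_num) _)
  have hw : (Lam X pd)⁻¹ * w0 * Lam X pd * fD X (uM (-x)) ∈ UD K := by
    refine mul_mem ?_ (Subgroup.mem_inf.1 (fD_uM_U1 X _)).1
    have hw' : w0 ∈ UD K := by
      rw [hw0]
      exact mul_mem (mul_mem (mul_mem (xx_mem_UD (by norm_num) (by norm_num) (by norm_num) _)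
        (xx_mem_UD (by norm_num) (by norm_num) (by norm_num) _))
        (xx_mem_UD (by norm_num) (by norm_num) (by norm_num) _))
        (xx_mem_UD (by norm_num) (by norm_num) (by norm_num) _)
    simpa using (Subgroup.mem_normalizer_iff.1 (inv_mem (Lam_mem_NU X pd)) w0).1 hw'
  have key : xx 22 b * fD X (uM (e : K)) * n180 X =
      v0 * Lam X D * ((Lam X pd)⁻¹ * w0 * Lam X pd * fD X (uM (-x))) := by
    rw [n180, mul_assoc (xx 22 b), ← map_mul, uM_mul_wM, he1, map_mul, map_mul, hl, ← hpl, ← mul_assoc,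
      ← mul_assoc, even_identity h2, hD, map_mul (Lam X) (toP X (lM r)) pd, Lam_toP, fb_lM,
      show b * X.f x * (b * x * X.f (X.f x)) = (r : K) by
        rw [← hbr, Nk_val, Units.val_inv_eq_inv_val]; simp only [hx]; ring, ← hv0, ← hw0]
    simp only [hx]
    group
  obtain ⟨hv1, hw1⟩ := split_fixed X (mul_mem (mul_mem h22 (fD_mem X _)) (fD_mem X _)) hv hw key
  refine ⟨D, ⟨_, hu, _, hv1, _, hw1, key⟩, ?_, ?_⟩
  · show 1 * (ψ e * 1) = c
    rw [one_mul, mul_one, he]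
  · have hd2 : ((Nk X (ψ e) : (kF X)ˣ) : k) = (δ e : k) * (δ e : k) := by
      rw [← hδ, Units.val_pow_eq_pow_val, sq]
    simp only [hD, hpd, Subgroup.coe_mul, Prod.fst_mul, hP_fst, toP_fst, Units.val_mul, glD_val', toG_val, mat_dM,
      hd2]
    congr 1
    ext i j
    fin_cases i <;> fin_cases j <;> simp [Matrix.mul_apply, Fin.sum_univ_two] <;> field_simp

end Cfsg.Lib.DFourCover
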