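import Cfsg.Agent.Chev.SL2
import Cfsg.Agent.Known.DFourCover.Two

/-! Choices of two-by-two matrices of determinant one and trace different from two. -/

set_option autoImplicit false
set_option linter.unusedSectionVars false

open Matrix

namespace Cfsg.Lib.DFourCover

open Cfsg.Lib.Chev

variable {F : Type*} [Field F]

local notation "M2" => Matrix (Fin 2) (Fin 2) F
local notation "SL2F" => Matrix.SpecialLinearGroup (Fin 2) F

/-- A matrix of determinant one that is a product of the required kind. -/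
def GoodM (M : M2) : Prop := M.det = 1 ∧ (M = 1 ∨ M.trace ≠ 2 ∧ M ≠ -1)

theorem goodM_of {M : M2} (h1 : M.det = 1) (h2 : M.trace ≠ 2) (h3 : M 1 0 ≠ 0 ∨ M 0 1 ≠ 0) : GoodM M :=
  ⟨h1, Or.inr ⟨h2, fun e => by rw [e] at h3; simp at h3⟩⟩

theorem three_ne_two' : (3 : F) ≠ 2 := fun h => one_ne_zero (α := F) (by linear_combination h)

theorem sixty_choice (A : M2) (hA : A.det ≠ 0) : ∃ z : F,
    GoodM (!![1, 0; 0, A.det⁻¹] * (mat (uM z : SL2F) * A)) ∨
      GoodM (!![1, 0; 0, A.det⁻¹] * (A * mat (uM z : SL2F))) := by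
  have hd : A.det = A 0 0 * A 1 1 - A 0 1 * A 1 0 := Matrix.det_fin_two A
  have hdetL : ∀ z : F, (!![1, 0; 0, A.det⁻¹] * (mat (uM z : SL2F) * A)).det = 1 := fun z => by
    rw [Matrix.det_mul, Matrix.det_mul, mat_uM]; simp [Matrix.det_fin_two_of, hA]
  have hdetR : ∀ z : F, (!![1, 0; 0, A.det⁻¹] * (A * mat (uM z : SL2F))).det = 1 := fun z => by
    rw [Matrix.det_mul, Matrix.det_mul, mat_uM]; simp [Matrix.det_fin_two_of, hA]
  by_cases hc : A 1 0 = 0
  · rw [hc, mul_zero, sub_zero] at hd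
    have ha : A 0 0 ≠ 0 := fun e => hA (by rw [hd, e, zero_mul])
    have he : A 1 1 ≠ 0 := fun e => hA (by rw [hd, e, mul_zero])
    by_cases h1 : A 0 0 = 1
    · refine ⟨-A 0 1, Or.inr ⟨hdetR _, Or.inl ?_⟩⟩
      rw [mat_uM, hd]
      ext i j
      fin_cases i <;> fin_cases j <;> simp [Matrix.mul_apply, Matrix.vecMul, dotProduct, Fin.sum_univ_two, hc, h1, he]
    · refine ⟨(1 - A 0 1) / A 0 0, Or.inr (goodM_of (hdetR _) ?_ (Or.inr ?_))⟩
      · rw [mat_uM, hd, Matrix.trace_fin_two]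
        simp [Matrix.mul_apply, Matrix.vecMul, dotProduct, Fin.sum_univ_two, hc]
        intro e
        apply h1
        field_simp at e
        have : (A 0 0 - 1) * (A 0 0 - 1) = 0 := by linear_combination e
        exact sub_eq_zero.1 (mul_self_eq_zero.1 this)
      · rw [mat_uM]
        simp [Matrix.mul_apply, Matrix.vecMul, dotProduct, Fin.sum_univ_two]
        field_simp
        simp
  · refine ⟨(3 - A 0 0 - A.det⁻¹ * A 1 1) / A 1 0, Or.inl (goodM_of (hdetL _) ?_ (Or.inl ?_))⟩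
    · rw [mat_uM, Matrix.trace_fin_two]
      simp [Matrix.mul_apply, Matrix.vecMul, dotProduct, Fin.sum_univ_two, div_mul_cancel₀ _ hc]
      intro e
      exact three_ne_two' (by linear_combination e)
    · rw [mat_uM]
      simp [Matrix.mul_apply, Matrix.vecMul, dotProduct, Fin.sum_univ_two, hc, hA]

theorem onetwenty_choice (A : M2) {p q s : F} (hp : p ≠ 0) (hq : q ≠ 0) (h : (!![0, p; q, s] * A).det = 1) :
    ∃ z₁ z₂ : F, GoodM (!![0, p; q, s] * (mat (uM z₁ : SL2F) * A * mat (uM z₂ : SL2F))) := by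
  have hA : A.det ≠ 0 := fun e => by rw [Matrix.det_mul, e, mul_zero] at h; exact zero_ne_one h
  obtain ⟨z₂, hz₂⟩ : ∃ z₂ : F, A 1 0 * z₂ + A 1 1 ≠ 0 := by
    by_cases h0 : A 1 1 = 0
    · refine ⟨1, ?_⟩
      rw [h0, mul_one, add_zero]
      intro e
      exact hA (by rw [Matrix.det_fin_two, h0, e]; ring)
    · exact ⟨0, by rwa [mul_zero, zero_add]⟩
  set e := A 1 0 * z₂ + A 1 1 with he
  set b := A 0 0 * z₂ + A 0 1 with hb
  set z₁ := ((3 - p * A 1 0 - q * b) / e - s) / q with hz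
  have hdet : (!![0, p; q, s] * (mat (uM z₁ : SL2F) * A * mat (uM z₂ : SL2F))).det = 1 := by
    rw [← h, Matrix.det_mul, Matrix.det_mul, Matrix.det_mul, Matrix.det_mul, mat_uM, mat_uM]
    simp [Matrix.det_fin_two_of]
  refine ⟨z₁, z₂, goodM_of hdet ?_ (Or.inr ?_)⟩
  · intro htr
    apply three_ne_two' (F := F)
    rw [← htr, mat_uM, mat_uM, Matrix.trace_fin_two]
    have h1 : q * z₁ = (3 - p * A 1 0 - q * b) / e - s := by rw [hz]; field_simp
    have h2 : (q * z₁ + s) * e = 3 - p * A 1 0 - q * b := by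
      rw [h1, sub_add_cancel, div_mul_cancel₀ _ hz₂]
    simp [Matrix.mul_apply, Matrix.vecMul, dotProduct, Fin.sum_univ_two]
    rw [he, hb] at h2
    linear_combination -h2
  · rw [mat_uM, mat_uM]
    simp [Matrix.mul_apply, Matrix.vecMul, dotProduct, Fin.sum_univ_two]
    exact ⟨hp, hz₂⟩

theorem mat_uM_inv (z : F) : mat ((uM z : SL2F)⁻¹) = mat (uM (-z) : SL2F) := by
  congr 1
  refine inv_eq_of_mul_eq_one_right (mat_inj ?_)
  rw [mat_mul, mat_uM, mat_uM, mat_one]
  ext i j
  fin_cases i <;> fin_cases j <;> simp [Matrix.mul_apply, Matrix.vecMul, dotProduct, Fin.sum_univ_two]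

theorem mat_lM_inv (z : F) : mat ((lM z : SL2F)⁻¹) = mat (lM (-z) : SL2F) := by
  congr 1
  refine inv_eq_of_mul_eq_one_right (mat_inj ?_)
  rw [mat_mul, mat_lM, mat_lM, mat_one]
  ext i j
  fin_cases i <;> fin_cases j <;> simp [Matrix.mul_apply, Matrix.vecMul, dotProduct, Fin.sum_univ_two]

theorem mat_wM_inv' : mat ((wM : SL2F)⁻¹) = !![0, -1; 1, 0] := by
  rw [mat, Matrix.SpecialLinearGroup.coe_inv, show ((wM : SL2F) : M2) = !![0, 1; -1, 0] from rfl,
    Matrix.adjugate_fin_two_of]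
  simp

theorem det_conj (Y : SL2F) (A : M2) : (mat Y * A * mat Y⁻¹).det = A.det := by
  rw [Matrix.det_mul, Matrix.det_mul, mat, mat, Matrix.SpecialLinearGroup.det_coe,
    Matrix.SpecialLinearGroup.det_coe, one_mul, mul_one]

theorem conj_conj (Y Z : SL2F) (A : M2) :
    mat Y * (mat Z * A * mat Z⁻¹) * mat Y⁻¹ = mat (Y * Z) * A * mat (Y * Z)⁻¹ := by
  rw [_root_.mul_inv_rev, mat_mul, mat_mul]
  simp only [mul_assoc]

/-- A non-diagonal matrix has a conjugate with non-zero lower left entry. -/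
theorem exists_lower (A : M2) (h : ¬ (A 0 1 = 0 ∧ A 1 0 = 0)) :
    ∃ Y : SL2F, (mat Y * A * mat Y⁻¹) 1 0 ≠ 0 := by
  by_cases hc : A 1 0 = 0
  · refine ⟨wM, ?_⟩
    rw [mat_wM_inv', mat_wM]
    simp [Matrix.mul_apply, Matrix.vecMul, dotProduct, Fin.sum_univ_two, hc]
    exact fun e => h ⟨e, hc⟩
  · exact ⟨1, by rwa [inv_one, mat_one, one_mul, mul_one]⟩

theorem odd_choice (h2 : (2 : F) ≠ 0) (A : M2) {p q : F} (h : (!![0, p; q, 0] * A).det = 1) :
    ∃ Y : SL2F, GoodM (!![0, p; q, 0] * (mat Y * A * mat Y⁻¹)) := by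
  have h' := h
  rw [Matrix.det_mul, Matrix.det_fin_two_of, zero_mul, zero_sub] at h'
  have hp : p ≠ 0 := fun e => by simp [e] at h'
  have hq : q ≠ 0 := fun e => by simp [e] at h'
  have hA : A.det ≠ 0 := fun e => by simp [e] at h'
  have hdet : ∀ Y : SL2F, (!![0, p; q, 0] * (mat Y * A * mat Y⁻¹)).det = 1 := fun Y => by
    rw [Matrix.det_mul, det_conj, ← Matrix.det_mul, h]
  -- a diagonal conjugate is good
  have diag : ∀ Y : SL2F, (mat Y * A * mat Y⁻¹) 0 1 = 0 → (mat Y * A * mat Y⁻¹) 1 0 = 0 →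
      ∃ Y : SL2F, GoodM (!![0, p; q, 0] * (mat Y * A * mat Y⁻¹)) := fun Y hb hc => by
    have hd := det_conj Y A
    have hdY := hdet Y
    generalize hS : mat Y * A * mat Y⁻¹ = S at hb hc hd hdY
    rw [Matrix.det_fin_two, hb, zero_mul, sub_zero] at hd
    refine ⟨Y, ?_⟩
    rw [hS]
    refine goodM_of hdY ?_ (Or.inl ?_)
    · rw [Matrix.trace_fin_two]
      simp [Matrix.mul_apply, Matrix.vecMul, dotProduct, Fin.sum_univ_two, hb, hc]
      exact fun e => h2 e.symm
    · simp [Matrix.mul_apply, Matrix.vecMul, dotProduct, Fin.sum_univ_two, hq]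
      exact fun e => hA (by rw [← hd, e, zero_mul])
  by_cases hoff : A 0 1 = 0 ∧ A 1 0 = 0
  · exact diag 1 (by rw [inv_one, mat_one, one_mul, mul_one]; exact hoff.1)
      (by rw [inv_one, mat_one, one_mul, mul_one]; exact hoff.2)
  obtain ⟨Y₀, hY₀⟩ := exists_lower A hoff
  set B := mat Y₀ * A * mat Y₀⁻¹ with hB
  have hBd : B.det = A.det := det_conj Y₀ A
  set a := B 0 0
  set b := B 0 1
  set c := B 1 0
  set d := B 1 1
  have hform : ∀ z : F, mat (uM z * Y₀) * A * mat (uM z * Y₀)⁻¹ =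
      !![a + z * c, b + z * (d - a) - z * z * c; c, d - z * c] := fun z => by
    rw [← conj_conj, ← hB, mat_uM_inv, mat_uM, mat_uM]
    ext i j
    fin_cases i <;> fin_cases j <;> simp [Matrix.mul_apply, Matrix.vecMul, dotProduct, Fin.sum_univ_two, a, b, c, d] <;> ring
  have finish : ∀ z : F, (a + z * c ≠ 0 ∨ d - z * c ≠ 0) →
      p * c + q * (b + z * (d - a) - z * z * c) ≠ 2 →
      ∃ Y : SL2F, GoodM (!![0, p; q, 0] * (mat Y * A * mat Y⁻¹)) := fun z hnz htr => by
    refine ⟨uM z * Y₀, goodM_of (hdet _) ?_ ?_⟩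
    · rw [hform, Matrix.trace_fin_two]
      simpa [Matrix.mul_apply, Matrix.vecMul, dotProduct, Fin.sum_univ_two] using htr
    · rw [hform]
      rcases hnz with h0 | h0
      · left; simp [Matrix.mul_apply, Matrix.vecMul, dotProduct, Fin.sum_univ_two, hq, h0]
      · right; simp [Matrix.mul_apply, Matrix.vecMul, dotProduct, Fin.sum_univ_two, hp, h0]
  by_cases htr : a + d = 0
  · have hd' : d = -a := by linear_combination htr
    by_cases hsq : IsSquare (-A.det)
    · obtain ⟨r, hr⟩ := hsq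
      have hr0 : r ≠ 0 := fun e => hA (by rw [e, mul_zero, neg_eq_zero] at hr; exact hr)
      set z := (r - a) / c with hz
      have hzc : z * c = r - a := by rw [hz, div_mul_cancel₀ _ hY₀]
      have hb0 : b + z * (d - a) - z * z * c = 0 := by
        refine (mul_eq_zero.1 (show c * (b + z * (d - a) - z * z * c) = 0 from ?_)).resolve_left hY₀
        have e : B.det = a * d - b * c := Matrix.det_fin_two B
        rw [hBd] at e
        rw [hd'] at e ⊢
        linear_combination (-(2 * a) - (r - a) - z * c + 0) * hzc + hr + e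
      refine diag (lM (-c / (2 * r)) * (uM z * Y₀)) ?_ ?_
      · rw [← conj_conj, hform, hb0, mat_lM_inv, mat_lM, mat_lM]
        simp [Matrix.mul_apply, Matrix.vecMul, dotProduct, Fin.sum_univ_two]
      · rw [← conj_conj, hform, hb0, mat_lM_inv, mat_lM, mat_lM]
        simp [Matrix.mul_apply, Matrix.vecMul, dotProduct, Fin.sum_univ_two]
        rw [hzc, hd']
        field_simp
        ring
    · set z := (1 - a) / c with hz
      have hzc : z * c = 1 - a := by rw [hz, div_mul_cancel₀ _ hY₀]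
      refine finish z (Or.inl (by rw [hzc]; simp)) fun e2 => hsq ?_
      have e : B.det = a * d - b * c := Matrix.det_fin_two B
      rw [hBd] at e
      rw [hd'] at e e2
      set b' := b + z * (-a - a) - z * z * c with hb'
      have eb : b' * c = -1 - A.det := by
        rw [hb', e]
        linear_combination (-(2 * a) - (1 - a) - z * c) * hzc
      have key : -A.det * ((p * c - 1) * (p * c - 1)) = 1 := by
        linear_combination (-A.det * (p * c)) * e2 + (-p * c * q) * 0 + (1 + A.det) * h' +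
          (A.det * p * q) * eb
      refine ⟨(p * c - 1)⁻¹, ?_⟩
      have hne : p * c - 1 ≠ 0 := fun e' => by rw [e'] at key; simp at key
      field_simp
      linear_combination key
  · have hnz : ∀ z : F, a + z * c ≠ 0 ∨ d - z * c ≠ 0 := fun z => by
      by_contra hh
      push Not at hh
      exact htr (by linear_combination hh.1 + hh.2)
    by_contra hcon
    have g : ∀ z : F, p * c + q * (b + z * (d - a) - z * z * c) = 2 := fun z => by
      by_contra hh; exact hcon (finish z (hnz z) hh)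
    have : q * c * 2 = 0 := by linear_combination -(g 1) - g (-1) + 2 * g 0
    exact mul_ne_zero (mul_ne_zero hq hY₀) h2 this

theorem even_choice (h2 : (2 : F) = 0) (A : M2) {δ r₀ : F} (hr₀ : r₀ ≠ 0) (h : (δ • A).det = 1) :
    ∃ (Y : SL2F) (r : F), (r = 0 ∨ r = r₀) ∧
      GoodM (mat (lM r : SL2F) * (δ • (1 : M2)) * (mat Y * A * mat Y⁻¹)) := by
  have hone : ∀ M : M2, M = 1 ∨ M.trace ≠ 2 → M.det = 1 → GoodM M := fun M hM hdet => by
    refine ⟨hdet, hM.imp id fun ht => ⟨ht, fun e => ht ?_⟩⟩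
    rw [e, Matrix.trace_neg, Matrix.trace_one, Fintype.card_fin]
    push_cast
    linear_combination (-2 : F) * h2
  have hdet : ∀ (Y : SL2F) (r : F),
      (mat (lM r : SL2F) * (δ • (1 : M2)) * (mat Y * A * mat Y⁻¹)).det = 1 := fun Y r => by
    rw [mul_assoc, Matrix.det_mul, smul_mul_assoc, one_mul, Matrix.det_smul, det_conj, ← Matrix.det_smul, h,
      mat, Matrix.SpecialLinearGroup.det_coe, mul_one]
  have hval : ∀ (Y : SL2F) (r : F), (mat (lM r : SL2F) * (δ • (1 : M2)) * (mat Y * A * mat Y⁻¹)).trace =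
      δ * (mat Y * A * mat Y⁻¹).trace + δ * r * (mat Y * A * mat Y⁻¹) 0 1 := fun Y r => by
    rw [mat_lM, Matrix.trace_fin_two, Matrix.trace_fin_two]
    simp [Matrix.mul_apply, Matrix.vecMul, dotProduct, Fin.sum_univ_two]
    ring
  have hδ : δ ≠ 0 := fun e => by simp [e] at h
  by_cases htr : A.trace = 0
  · by_cases hs : δ • A = 1
    · refine ⟨1, 0, Or.inl rfl, hone _ (Or.inl ?_) (hdet _ _)⟩
      rw [inv_one, mat_one, one_mul, mul_one, show (lM (0 : F) : SL2F) = 1 from mat_inj (by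
        rw [mat_lM, mat_one]; ext i j; fin_cases i <;> fin_cases j <;> simp), mat_one, one_mul,
        smul_mul_assoc, one_mul, hs]
    · have hnd : ¬ (A 0 1 = 0 ∧ A 1 0 = 0) := fun ⟨hb, hc⟩ => hs (by
        rw [Matrix.trace_fin_two] at htr
        have e11 : A 1 1 = A 0 0 := by linear_combination htr - (A 0 0) * h2
        have hdd := h
        rw [Matrix.det_smul, Matrix.det_fin_two, hb, e11] at hdd
        have : (δ * A 0 0 - 1) * (δ * A 0 0 - 1) = 0 := by
          simp [Fintype.card_fin] at hdd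
          linear_combination hdd + (1 - δ * A 0 0) * h2
        have h1 : δ * A 0 0 = 1 := sub_eq_zero.1 (mul_self_eq_zero.1 this)
        ext i j
        fin_cases i <;> fin_cases j <;> simp [hb, hc, e11, h1])
      obtain ⟨Y, hY⟩ := exists_lower A hnd
      have h01 : (mat ((wM : SL2F) * Y) * A * mat ((wM : SL2F) * Y)⁻¹) 0 1 ≠ 0 := by
        rw [← conj_conj]
        generalize mat Y * A * mat Y⁻¹ = S at hY ⊢
        rw [mat_wM_inv', mat_wM]
        simpa [Matrix.mul_apply, Matrix.vecMul, dotProduct, Fin.sum_univ_two] using hY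
      refine ⟨wM * Y, r₀, Or.inr rfl, hone _ (Or.inr ?_) (hdet _ _)⟩
      rw [hval, Matrix.trace_mul_cycle, ← mat_mul, inv_mul_cancel, mat_one, one_mul, htr, mul_zero, zero_add, h2]
      exact mul_ne_zero (mul_ne_zero hδ hr₀) h01
  · refine ⟨1, 0, Or.inl rfl, hone _ (Or.inr ?_) (hdet _ _)⟩
    rw [hval, inv_one, mat_one, one_mul, mul_one, mul_zero, zero_mul, add_zero, h2]
    exact mul_ne_zero hδ htr

end Cfsg.Lib.DFourCover
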