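import Cfsg.Agent.Known.DFourCover.Rad

/-! The class of an elliptic element of the Levi complement meets every coset of both radicals. -/

set_option autoImplicit false
set_option linter.unusedSectionVars false

open Cfsg.Lie

namespace Cfsg.Lib.DFourCover

open Cfsg.Lib.Chev
open Cfsg.Lib.GTwoOdd (hom_ext dM mat_dM dconj mat_dconj dl dl_val glD toG toG_val dl_toG dl_glD)
open Cfsg.Lib.SpFourCover (comp2 comp2_trace comp2_det)

variable {K : Type*} [Field K] [Fintype K]

local notation "GG" => GL chevD4.Idx K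

/-- A fixed-point-free element is conjugate to all its translates. -/
theorem exists_conj_mul {G : Type*} [Group G] (U : Subgroup G) [Finite ↥U] {a : G}
    (hn : ∀ u ∈ U, a⁻¹ * u * a ∈ U) (hf : ∀ u ∈ U, a * u * a⁻¹ = u → u = 1) {u : G} (hu : u ∈ U) :
    ∃ g ∈ U, g * a * g⁻¹ = a * u := by
  let φ : ↥U → ↥U := fun g => ⟨a⁻¹ * g * a * (g : G)⁻¹, mul_mem (hn _ g.2) (inv_mem g.2)⟩
  have hinj : Function.Injective φ := by
    intro g g' h
    have e : a⁻¹ * g * a * (g : G)⁻¹ = a⁻¹ * g' * a * (g' : G)⁻¹ := congrArg Subtype.val h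
    have e2 : (g : G) * a * (g : G)⁻¹ = g' * a * (g' : G)⁻¹ := by
      have := congrArg (fun z => a * z) e
      simpa [mul_assoc] using this
    have h1 : a * ((g' : G)⁻¹ * g) * a⁻¹ = (g' : G)⁻¹ * g := by
      calc a * ((g' : G)⁻¹ * g) * a⁻¹ = (g' : G)⁻¹ * (g' * a * (g' : G)⁻¹) * g * a⁻¹ := by group
        _ = _ := by rw [← e2]; group
    exact Subtype.ext (inv_mul_eq_one.1 (hf _ (mul_mem (inv_mem g'.2) g.2) h1)).symm
  obtain ⟨g, hg⟩ := Finite.surjective_of_injective hinj ⟨u, hu⟩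
  have e : a⁻¹ * g * a * (g : G)⁻¹ = u := congrArg Subtype.val hg
  exact ⟨g, g.2, by rw [← e]; group⟩

theorem closed_Pu : ((List.range 24).filter fun r => decide (12 ≤ r) && decide (r ≠ 14)).all (fun r =>
    ((List.range 24).filter fun s => decide (12 ≤ s) && decide (s ≠ 14)).all fun s =>
      (chevD4.commTerms r s).all fun q => decide (q.1 ≠ 14)) = true := by decide +kernel

theorem closedPsi_Pu : ClosedPsi chevD4 Pu := by
  intro r s hr hs hPr hPs q hq h
  have hc := closed_Pu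
  simp only [List.all_eq_true, List.mem_filter, List.mem_range, Bool.and_eq_true, decide_eq_true_eq] at hc
  exact hc r.val ⟨d4_vals.2.1 ▸ r.isLt, d4_vals.2.2 ▸ hr, hPr⟩ s.val
    ⟨d4_vals.2.1 ▸ s.isLt, d4_vals.2.2 ▸ hs, hPs⟩ q hq

theorem pw12 (t : ℕ → K) : (S4.pw 12 t : GG) = xx 12 (t 12) * xx 13 (t 13) * xx 14 (t 14) * xx 15 (t 15) *
    xx 16 (t 16) * xx 17 (t 17) * xx 18 (t 18) * xx 19 (t 19) * xx 20 (t 20) * xx 21 (t 21) * xx 22 (t 22) *
    xx 23 (t 23) := by
  rw [Struct.pw, show List.range' 12 (chevD4.nroots - 12) = [12, 13, 14, 15, 16, 17, 18, 19, 20, 21, 22, 23] by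
    decide +kernel]
  simp [xx, mul_assoc]

theorem pw12_inj {t t' : ℕ → K} (e : (S4.pw 12 t : GG) = S4.pw 12 t') :
    ∀ r, 12 ≤ r → r < 24 → t r = t' r := fun r h1 h2 =>
  S4.pw_inj 12 12 (by rw [d4_vals.2.1]) (by rw [d4_vals.2.2]) t t' e r h1 (lt24 h2)

theorem exists_pw12 {u : GG} (hu : u ∈ UD K) : ∃ t : ℕ → K, t 14 = 0 ∧ u = S4.pw 12 t := by
  obtain ⟨t, ht, e⟩ := S4.exists_pw_closed closedPsi_Pu 12 12 (by rw [d4_vals.2.1]) (by rw [d4_vals.2.2]) u
    (S4.UPsi_mono (fun r a h => ⟨h, d4_vals.2.2 ▸ a⟩) hu)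
  exact ⟨t, ht 14 (lt24 (by norm_num)) (fun h => h rfl), e⟩

/-- The plane of the two highest roots. -/
noncomputable def plane (g e : K) : GG := xx 22 e * xx 23 g

/-- The five coordinates outside the classes of height one and two. -/
noncomputable def five (a b c e g : K) : GG := xx 17 a * xx 20 b * xx 21 c * plane g e

theorem five_eq (a b c e g : K) : (five a b c e g : GG) =
    S4.pw 12 (fun r => if r = 17 then a else if r = 20 then b else if r = 21 then c else if r = 22 then e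
      else if r = 23 then g else 0) := by
  rw [pw12]
  simp [five, plane, xx_zero, mul_assoc]

theorem five_inj {a b c e g a' b' c' e' g' : K} (h : (five a b c e g : GG) = five a' b' c' e' g') :
    a = a' ∧ b = b' ∧ c = c' ∧ e = e' ∧ g = g' := by
  rw [five_eq, five_eq] at h
  have := pw12_inj h
  refine ⟨?_, ?_, ?_, ?_, ?_⟩
  · simpa using this 17 (by norm_num) (by norm_num)
  · simpa using this 20 (by norm_num) (by norm_num)
  · simpa using this 21 (by norm_num) (by norm_num)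
  · simpa using this 22 (by norm_num) (by norm_num)
  · simpa using this 23 (by norm_num) (by norm_num)

theorem plane_terms : chevD4.commTerms 14 22 = [(23, (1, (1, 1)))] ∧ chevD4.commTerms 14 23 = [] ∧
    chevD4.commTerms 9 22 = [] ∧ chevD4.commTerms 9 23 = [(22, (1, (1, 1)))] ∧
    (22 : ℕ) ≠ chevD4.neg 14 ∧ (23 : ℕ) ≠ chevD4.neg 14 ∧ (22 : ℕ) ≠ chevD4.neg 9 ∧ (23 : ℕ) ≠ chevD4.neg 9 ∧
    TwDat.commOK chevD4 22 23 = true := by
  decide +kernel

theorem conj_root {r s : ℕ} (hr : r < 24) (hs : s < 24) (h1 : s ≠ r) (h2 : s ≠ chevD4.neg r) (t v : K) :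
    (xx r t : GG) * xx s v * (xx r t)⁻¹ = xx s v * S4.ok.wG (chevD4.commWord K r s (-t) v) := by
  have e := S4.ok.commRel S4.chain S4.base (lt24 hr) (lt24 hs) h1 h2 (-t) v
  rw [xx_inv, mul_assoc, show (xx s v * xx r (-t) : GG) = xx r (-t) * xx s v * S4.ok.wG (chevD4.commWord K r s (-t) v) from e,
    ← mul_assoc, ← mul_assoc, xx_add, add_neg_cancel, xx_zero, one_mul]

variable (X : XD K)

local notation "k" => kF X
local notation "SL2k" => Matrix.SpecialLinearGroup (Fin 2) (kF X)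
local notation "GL2k" => GL (Fin 2) (kF X)
local notation "M2" => Matrix (Fin 2) (Fin 2) (kF X)

theorem fb_plane (Y : SL2k) : ∀ g e : K, fb X Y * plane g e * (fb X Y)⁻¹ =
    plane (((mat Y 0 0 : k) : K) * g + ((mat Y 0 1 : k) : K) * e)
      (((mat Y 1 0 : k) : K) * g + ((mat Y 1 1 : k) : K) * e) := by
  obtain ⟨t1, t2, t3, t4, n1, n2, n3, n4, hc⟩ := plane_terms
  have c23 : ∀ p q : K, Commute (xx 22 p : GG) (xx 23 q) := fun p q =>
    commute_xx (by norm_num) (by norm_num) hc p q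
  refine sl2_induction (P := fun Y => ∀ g e : K, fb X Y * plane g e * (fb X Y)⁻¹ =
    plane (((mat Y 0 0 : k) : K) * g + ((mat Y 0 1 : k) : K) * e)
      (((mat Y 1 0 : k) : K) * g + ((mat Y 1 1 : k) : K) * e)) ?_ (fun u g e => ?_) (fun u g e => ?_) Y
  · intro A B hA hB g e
    rw [map_mul, mul_inv_rev, show fb X A * fb X B * plane g e * ((fb X B)⁻¹ * (fb X A)⁻¹) =
      fb X A * (fb X B * plane g e * (fb X B)⁻¹) * (fb X A)⁻¹ by group, hB, hA]
    congr 1 <;> simp [mat_mul, Matrix.mul_apply, Fin.sum_univ_two] <;> ring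
  · rw [fb_uM, plane, ← conj_mul, conj_root (by norm_num) (by norm_num) (by norm_num) n1,
      conj_root (by norm_num) (by norm_num) (by norm_num) n2, ChevalleyDatum.commWord, ChevalleyDatum.commWord,
      t1, t2]
    simp only [Ok.wG, List.map_cons, List.map_nil, List.prod_cons, List.prod_nil, mul_one, Int.cast_one,
      one_mul, pow_one, neg_neg, mat_uM, plane]
    rw [mul_assoc, show (S4.ok.xG 23 ((u : K) * e) : GG) = xx 23 ((u : K) * e) from rfl, xx_add]
    simp [add_comm, mul_comm]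
  · rw [fb_lM, plane, ← conj_mul, conj_root (by norm_num) (by norm_num) (by norm_num) n3,
      conj_root (by norm_num) (by norm_num) (by norm_num) n4, ChevalleyDatum.commWord, ChevalleyDatum.commWord,
      t3, t4]
    simp only [Ok.wG, List.map_cons, List.map_nil, List.prod_cons, List.prod_nil, mul_one, Int.cast_one,
      one_mul, pow_one, neg_neg, mat_lM, plane]
    rw [show (S4.ok.xG 22 ((u : K) * g) : GG) = xx 22 ((u : K) * g) from rfl, ← (c23 _ g).eq, ← mul_assoc, xx_add]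
    simp [add_comm, mul_comm]

theorem pw_tor (a b : Kˣ) (t : ℕ → K) :
    tor X a b * S4.pw 12 t * (tor X a b)⁻¹ = S4.pw 12 (fun r => (chi X r a b : K) * t r) := by
  rw [← MulAut.conj_apply, Struct.pw, map_list_prod, List.map_map, Struct.pw]
  refine congrArg List.prod (List.map_congr_left fun r hr => ?_)
  rw [List.mem_range'_1, d4_vals.2.1] at hr
  exact tor_conj X (by omega) a b (t r)

/-- The ratio attached to a root of the moved class. -/
noncomputable def phi (a : Kˣ) : K := (a : K) * X.f a / X.f (X.f a)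

theorem phi_ne_one {a : Kˣ} (ha : a ≠ 1) : phi X a ≠ 1 := by
  intro h
  have ha0 := a.ne_zero
  have e1 : (a : K) * X.f a = X.f (X.f a) := by
    rw [phi, div_eq_one_iff_eq (by simp [ha0])] at h
    exact h
  have e2 : X.f a * X.f (X.f a) = (a : K) := by
    have := congrArg X.f e1
    rwa [map_mul, f_three X] at this
  rw [← e1] at e2
  have e3 : X.f ((a : K) ^ 2) = X.f (1 : K) → False := by
    intro h2
    have h3 := X.f.injective h2
    rcases sq_eq_one_iff.1 h3 with h4 | h4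
    · exact ha (Units.ext h4)
    · rw [h4, map_neg, map_one, map_neg, map_one] at e1
      simp at e1
      exact ha (Units.ext (by rw [h4, Units.val_one]; linear_combination -e1))
  apply e3
  rw [map_pow, map_one]
  have : (a : K) * (X.f a ^ 2) = (a : K) * 1 := by linear_combination e2
  exact mul_left_cancel₀ ha0 this

theorem phi_f (a : Kˣ) : X.f (phi X a) = X.f a * X.f (X.f a) / (a : K) := by
  rw [phi, map_div₀, map_mul, f_three X]

variable {t : ↥(kF X)} {d : (kF X)ˣ}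

theorem fixed_trivial (h : Ell t (d : k)) {a0 : Kˣ} (hN : Nk X a0 = d) (h1 : a0 ≠ 1) {p : ↥(LP X)}
    (hp : p.1.2 = a0) (ht : (p.1.1 : M2).trace = t) {u : GG} (hu : u ∈ U1 X)
    (he : Lam X p * u * (Lam X p)⁻¹ = u) : u = 1 := by
  obtain ⟨s, s14, rfl⟩ := exists_pw12 (Subgroup.mem_inf.1 hu).1
  have hdl : dl p.1.1 = d := by rw [(mem_LP X).1 p.2, hp, hN]
  have hd : (p.1.1 : M2).det = d := by
    rw [← hdl]; exact (Matrix.GeneralLinearGroup.val_det_apply _).symm
  have hdK : ((d : k) : K) = (a0 : K) * X.f a0 * X.f (X.f a0) := by rw [← hN, Nk_val]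
  -- the central power
  set n := Fintype.card k + 1 with hn
  have hpow : (p.1.1 : GL2k) ^ n = glD d d := by
    apply Units.ext
    rw [Units.val_pow_eq_pow_val, hn, pow_card_succ h ht hd, glD_val']
    ext i j
    fin_cases i <;> fin_cases j <;> simp
  have hb0 : a0 ^ n = a0 * s1 X a0 := by
    apply Units.ext
    rw [hn, card_kF, Units.val_pow_eq_pow_val, Units.val_mul, s1_val, X.hfq, pow_succ']
  have hz : Lam X (p ^ n) = tor X (a0 * s1 X a0) (Units.map (kF X).subtype.toMonoidHom d) := by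
    rw [Lam_apply, show ((p ^ n).1.1 : GL2k) = p.1.1 ^ n from rfl, show ((p ^ n).1.2 : Kˣ) = p.1.2 ^ n from rfl,
      hpow, hp, hb0, hA_apply]
    have e : sB X (glD d d) = dM d := by
      apply mat_inj
      rw [mat_sB, dl_glD, mat_dM, glD_val']
      ext i j
      fin_cases i <;> fin_cases j <;> simp
    rw [e, fb_dM, ← tor_mul, one_mul, mul_one]
  have hc : Commute (Lam X p) (S4.pw 12 s) := mul_inv_eq_iff_eq_mul.1 he
  have hc2 := hc.pow_left n
  rw [← map_pow, hz] at hc2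
  have e1 := mul_inv_eq_iff_eq_mul.2 hc2.eq
  rw [pw_tor] at e1
  have key := pw12_inj e1
  have hphi := phi_ne_one X h1
  have hphi1 : X.f (phi X a0) ≠ 1 := fun e => hphi (X.f.injective (by rw [e, map_one]))
  have hphi2 : X.f (X.f (phi X a0)) ≠ 1 := fun e => hphi1 (X.f.injective (by rw [e, map_one]))
  have hzero : ∀ r, 12 ≤ r → r < 24 →
      ((chi X r (a0 * s1 X a0) (Units.map (kF X).subtype.toMonoidHom d) : Kˣ) : K) ≠ 1 → s r = 0 := by
    intro r r1 r2 hr
    have := key r r1 r2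
    by_contra h0
    exact hr (mul_right_cancel₀ h0 (this.trans (one_mul _).symm))
  obtain ⟨c9, c12, c13, c14, c15, c16, c17, c18, c19, c20, c21, c22, c23⟩ := cc_vals
  have ha0 := a0.ne_zero
  have hf1 : X.f (a0 : K) ≠ 0 := by simp [ha0]
  have hf2 : X.f (X.f (a0 : K)) ≠ 0 := by simp [ha0]
  have s18 : s 18 = 0 := hzero 18 (by norm_num) (by norm_num) (by
    convert hphi using 1
    simp [chi, c18, phi, s1_val, hdK]
    field_simp)
  have s13 : s 13 = 0 := hzero 13 (by norm_num) (by norm_num) (by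
    convert hphi1 using 1
    rw [phi_f]
    simp [chi, c13, s1_val, hdK, f_three X]
    field_simp)
  have s12 : s 12 = 0 := hzero 12 (by norm_num) (by norm_num) (by
    convert hphi2 using 1
    rw [phi_f, map_div₀, map_mul, f_three X]
    simp [chi, c12, s1_val, hdK, f_three X]
    field_simp)
  have s19 : s 19 = 0 := hzero 19 (by norm_num) (by norm_num) (by
    convert hphi using 1
    simp [chi, c19, phi, s1_val, hdK, f_three X]
    field_simp)
  have s16 : s 16 = 0 := hzero 16 (by norm_num) (by norm_num) (by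
    convert hphi1 using 1
    rw [phi_f]
    simp [chi, c16, s1_val, hdK, f_three X]
    field_simp)
  have s15 : s 15 = 0 := hzero 15 (by norm_num) (by norm_num) (by
    convert hphi2 using 1
    rw [phi_f, map_div₀, map_mul, f_three X]
    simp [chi, c15, s1_val, hdK, f_three X]
    field_simp)
  have hu5 : (S4.pw 12 s : GG) = five (s 17) (s 20) (s 21) (s 22) (s 23) := by
    rw [pw12, s14, s18, s13, s12, s19, s16, s15]
    simp [five, plane, xx_zero, mul_assoc]
  -- the five remaining coordinates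
  set Y := sB X p.1.1 with hY
  have hD : ∀ r ∈ [17, 20, 21], r < 24 → ∀ v : K,
      Lam X p * xx r v * (Lam X p)⁻¹ = xx r ((chi X r a0 1 : K) * v) := by
    intro r hr r2 v
    rw [Lam_apply, hp, ← hY, mul_inv_rev, show fb X Y * hA X a0 * xx r v * ((hA X a0)⁻¹ * (fb X Y)⁻¹) =
      fb X Y * (hA X a0 * xx r v * (hA X a0)⁻¹) * (fb X Y)⁻¹ by group, hA_apply, tor_conj X r2,
      (fb_commute_D X (by simp at hr ⊢; omega) _ Y).eq, mul_inv_cancel_right]
  have hP : Lam X p * plane (s 23) (s 22) * (Lam X p)⁻¹ =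
      plane (((mat Y 0 0 : k) : K) * s 23 + ((mat Y 0 1 : k) : K) * ((d : k) * s 22))
        (((mat Y 1 0 : k) : K) * s 23 + ((mat Y 1 1 : k) : K) * ((d : k) * s 22)) := by
    rw [← fb_plane, Lam_apply, hp, ← hY, mul_inv_rev, show fb X Y * hA X a0 * plane (s 23) (s 22) *
      ((hA X a0)⁻¹ * (fb X Y)⁻¹) = fb X Y * (hA X a0 * plane (s 23) (s 22) * (hA X a0)⁻¹) * (fb X Y)⁻¹ by group]
    congr 2
    rw [plane, ← conj_mul, hA_apply, tor_conj X (by norm_num), tor_conj X (by norm_num), plane]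
    simp [chi, c22, c23, s1_val, hdK]
  have e5 : Lam X p * five (s 17) (s 20) (s 21) (s 22) (s 23) * (Lam X p)⁻¹ =
      five ((chi X 17 a0 1 : K) * s 17) ((chi X 20 a0 1 : K) * s 20) ((chi X 21 a0 1 : K) * s 21)
        (((mat Y 1 0 : k) : K) * s 23 + ((mat Y 1 1 : k) : K) * ((d : k) * s 22))
        (((mat Y 0 0 : k) : K) * s 23 + ((mat Y 0 1 : k) : K) * ((d : k) * s 22)) := by
    rw [five, five, ← hD 17 (by simp) (by norm_num), ← hD 20 (by simp) (by norm_num),
      ← hD 21 (by simp) (by norm_num), ← hP]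
    group
  rw [hu5] at he
  rw [e5] at he
  obtain ⟨q17, q20, q21, q22, q23⟩ := five_inj he
  have z : ∀ (c v : K), c ≠ 1 → c * v = v → v = 0 := fun c v hc hv => by
    by_contra h0
    exact hc (mul_right_cancel₀ h0 (hv.trans (one_mul _).symm))
  have r17 : s 17 = 0 := z _ _ (by
    convert hphi1 using 1
    rw [phi_f]
    simp [chi, c17, s1_val]
    field_simp) q17
  have r20 : s 20 = 0 := z _ _ (by
    convert hphi2 using 1
    rw [phi_f, map_div₀, map_mul, f_three X]
    simp [chi, c20, s1_val]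
    field_simp) q20
  have r21 : s 21 = 0 := z _ _ (by
    convert hphi using 1
    simp [chi, c21, phi, s1_val]
    field_simp) q21
  simp only [hY, mat_sB, Matrix.of_apply, Matrix.cons_val', Matrix.cons_val_zero, Matrix.cons_val_one,
    Matrix.cons_val_fin_one, Matrix.empty_val', hdl] at q22 q23
  have hd0 : ((d : k) : K) ≠ 0 := fun e => d.ne_zero (Subtype.ext e)
  push_cast at q22 q23
  field_simp at q22 q23
  have hdet : ((((p.1.1 : M2) 0 0 : k) : K) - 1) * ((((p.1.1 : M2) 1 1 : k) : K) - 1) -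
      (((p.1.1 : M2) 0 1 : k) : K) * (((p.1.1 : M2) 1 0 : k) : K) ≠ 0 := by
    intro e
    apply h.noRoot 1
    have ht' := ht
    have hd' := hd
    rw [Matrix.trace_fin_two] at ht'
    rw [Matrix.det_fin_two] at hd'
    rw [← ht', ← hd']
    apply Subtype.ext
    push_cast
    linear_combination e
  set a := (((p.1.1 : M2) 0 0 : k) : K)
  set b := (((p.1.1 : M2) 0 1 : k) : K)
  set c := (((p.1.1 : M2) 1 0 : k) : K)
  set e := (((p.1.1 : M2) 1 1 : k) : K)
  have r23 : s 23 = 0 := (mul_eq_zero.1 (show ((a - 1) * (e - 1) - b * c) * s 23 = 0 by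
    linear_combination (e - 1) * q23 - b * q22)).resolve_left hdet
  have r22 : s 22 = 0 := (mul_eq_zero.1 (show ((a - 1) * (e - 1) - b * c) * s 22 = 0 by
    linear_combination (a - 1) * q22 - c * q23)).resolve_left hdet
  rw [hu5, r17, r20, r21, r22, r23]
  simp [five, plane, xx_zero]

theorem Nk_surjective (d : (kF X)ˣ) : ∃ a : Kˣ, Nk X a = d := by
  obtain ⟨z, hz⟩ := IsCyclic.exists_generator (α := Kˣ)
  set dK := Units.map (kF X).subtype.toMonoidHom d with hdK
  obtain ⟨i, hi⟩ : ∃ i : ℕ, z ^ i = dK := Submonoid.mem_powers_iff _ _ |>.1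
    (mem_powers_iff_mem_zpowers.2 (hz dK))
  have h1 : dK ^ (X.q - 1) = 1 := by
    rw [hdK, ← map_pow, ← card_kF X]
    rw [show d ^ (Fintype.card k - 1) = 1 from by
      apply Units.ext
      rw [Units.val_pow_eq_pow_val, FiniteField.pow_card_sub_one_eq_one _ d.ne_zero, Units.val_one], map_one]
  have hord : orderOf z = X.q ^ 3 - 1 := by
    rw [orderOf_eq_card_of_forall_mem_zpowers hz, Nat.card_units, X.hcard]; rfl
  have hdvd : X.q ^ 3 - 1 ∣ i * (X.q - 1) := by
    rw [← hord]; exact orderOf_dvd_of_pow_eq_one (by rw [pow_mul, hi, h1])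
  obtain ⟨m, hm⟩ : ∃ m, X.q = m + 2 := ⟨X.q - 2, by have := X.hq; omega⟩
  have e3 : X.q ^ 3 - 1 = (X.q * X.q + X.q + 1) * (X.q - 1) := by
    rw [hm, show m + 2 - 1 = m + 1 from rfl]
    refine Nat.sub_eq_of_eq_add ?_
    ring
  rw [e3] at hdvd
  obtain ⟨j, rfl⟩ := (Nat.mul_dvd_mul_iff_right (by omega)).1 hdvd
  refine ⟨z ^ j, Units.ext (Subtype.ext ?_)⟩
  have := congrArg Units.val hi
  rw [hdK, Units.coe_map, Units.val_pow_eq_pow_val] at this
  rw [Nk_val, show ((d : k) : K) = (z : K) ^ ((X.q * X.q + X.q + 1) * j) from this.symm]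
  simp only [Units.val_pow_eq_pow_val, X.hfq, ← pow_mul, ← pow_add]
  congr 1
  ring

/-- The elliptic element. -/
noncomputable def ellP (h : Ell t (d : k)) (a0 : Kˣ) (hN : Nk X a0 = d) : ↥(LP X) :=
  ⟨(Matrix.GeneralLinearGroup.mkOfDetNeZero (comp2 t (d : k)) (by rw [comp2_det]; exact h.hd0), a0),
    (mem_LP X).2 (by
      rw [hN]
      apply Units.ext
      exact (Matrix.GeneralLinearGroup.val_det_apply _).trans (comp2_det t (d : k)))⟩

variable (h : Ell t (d : ↥(kF X))) {a0 : Kˣ} (hN : Nk X a0 = d)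

/-- The elliptic element as a matrix. -/
noncomputable def ell : GG := Lam X (ellP X h a0 hN)

theorem ell_mem : ell X h hN ∈ X.G1 := Lam_mem X _

/-- The conjugacy class of the elliptic element. -/
def CE (g : GG) : Prop := ∃ c ∈ X.G1, c * ell X h hN * c⁻¹ = g

theorem CE.conj {g c : GG} (hc : c ∈ X.G1) (e : CE X h hN g) : CE X h hN (c * g * c⁻¹) := by
  obtain ⟨m, hm, rfl⟩ := e
  exact ⟨c * m, mul_mem hc hm, by group⟩

theorem CE_Lam {p : ↥(LP X)} (hp : p.1.2 = a0) (ht : (p.1.1 : M2).trace = t) : CE X h hN (Lam X p) := by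
  have hd : (p.1.1 : M2).det = d := by
    rw [← hN, ← hp, ← (mem_LP X).1 p.2]; exact (Matrix.GeneralLinearGroup.val_det_apply _).symm
  obtain ⟨g, hg⟩ := exists_conj h (y := (ellP X h a0 hN).1.1) (comp2_trace t (d : k)) (comp2_det t (d : k)) ht hd
  obtain ⟨c, hc⟩ := Nk_surjective X (dl g)
  let r : ↥(LP X) := ⟨(g, c), (mem_LP X).2 hc.symm⟩
  refine ⟨Lam X r, Lam_mem X _, ?_⟩
  rw [ell, ← map_inv, ← map_mul, ← map_mul]
  congr 1
  refine Subtype.ext (Prod.ext hg ?_)
  show c * a0 * c⁻¹ = p.1.2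
  rw [hp, mul_comm c, mul_inv_cancel_right]

/-- The transpose of an element of the Levi complement. -/
noncomputable def trP (p : ↥(LP X)) : ↥(LP X) :=
  ⟨({ val := (p.1.1 : M2).transpose
      inv := ((p.1.1⁻¹ : GL2k) : M2).transpose
      val_inv := by rw [← Matrix.transpose_mul, ← Units.val_mul, inv_mul_cancel, Units.val_one, Matrix.transpose_one]
      inv_val := by rw [← Matrix.transpose_mul, ← Units.val_mul, mul_inv_cancel, Units.val_one, Matrix.transpose_one] },
    p.1.2), (mem_LP X).2 (by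
      rw [← (mem_LP X).1 p.2]
      apply Units.ext
      rw [dl_val, dl_val]
      simp
      ring)⟩

theorem trP_fst (p : ↥(LP X)) : (((trP X p).1.1 : GL2k) : M2) = (p.1.1 : M2).transpose := rfl
theorem trP_inv_fst (p : ↥(LP X)) : ((((trP X p).1.1 : GL2k)⁻¹ : GL2k) : M2) = ((p.1.1⁻¹ : GL2k) : M2).transpose :=
  rfl
theorem trP_snd (p : ↥(LP X)) : ((trP X p).1.2 : Kˣ) = p.1.2 := rfl

theorem mat_wM_inv : mat ((wM : SL2k)⁻¹) = !![0, -1; 1, 0] := by
  rw [mat, Matrix.SpecialLinearGroup.coe_inv, show ((wM : SL2k) : M2) = !![0, 1; -1, 0] from rfl,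
    Matrix.adjugate_fin_two_of]
  simp

theorem n0_Lam (p : ↥(LP X)) : (n0 : GG)⁻¹ * Lam X p * n0 = (Lam X (trP X p))⁻¹ := by
  rw [← map_inv, Lam_apply, Lam_apply,
    show ((trP X p)⁻¹.1.2 : Kˣ) = (p.1.2)⁻¹ from rfl,
    show ((trP X p)⁻¹.1.1 : GL2k) = (trP X p).1.1⁻¹ from rfl,
    show (n0 : GG)⁻¹ * (fb X (sB X p.1.1) * hA X p.1.2) * n0 =
      ((n0 : GG)⁻¹ * fb X (sB X p.1.1) * n0) * ((n0 : GG)⁻¹ * hA X p.1.2 * n0) by group,
    n0_fb, map_inv (hA X)]
  congr 1
  · congr 1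
    apply mat_inj
    rw [mat_mul, mat_mul, mat_wM_inv, mat_wM, mat_sB, mat_sB, trP_inv_fst, map_inv,
      show dl (trP X p).1.1 = dl p.1.1 from (mem_LP X).1 (trP X p).2 |>.trans ((mem_LP X).1 p.2).symm]
    have h0 := (dl p.1.1).ne_zero
    have hd := dl_val p.1.1
    rw [show ((p.1.1⁻¹ : GL2k) : M2) = ((p.1.1 : M2))⁻¹ from Matrix.coe_units_inv _, Matrix.inv_def,
      Matrix.adjugate_fin_two, Ring.inverse_eq_inv', Matrix.det_fin_two, ← hd]
    ext i j
    fin_cases i <;> fin_cases j <;> simp [Matrix.mul_apply, Fin.sum_univ_two] <;> field_simp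
  · refine n0_torus X ?_
    have := tor_mem_T1 X p.1.2 1
    rwa [map_one, ← hA_apply] at this

variable (h1 : a0 ≠ 1)

include h1 in
theorem CE_Lam_mul {p : ↥(LP X)} (hp : p.1.2 = a0) (ht : (p.1.1 : M2).trace = t) {u : GG} (hu : u ∈ U1 X) :
    CE X h hN (Lam X p * u) := by
  obtain ⟨g, hg, e⟩ := exists_conj_mul (U1 X) (fun v hv => Lam_conj' X p hv)
    (fun v hv => fixed_trivial X h hN h1 hp ht hv) hu
  exact e ▸ (CE_Lam X h hN hp ht).conj X h hN (U1_le_G1 X hg)

include h1 in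
theorem CE_mul_Lam_inv {p : ↥(LP X)} (hp : p.1.2 = a0) (ht : (p.1.1 : M2).trace = t) {v : GG} (hv : v ∈ V1 X) :
    CE X h hN (v * (Lam X p)⁻¹) := by
  obtain ⟨u, hu, rfl⟩ := mem_V1 X hv
  have ht' : (((trP X p).1.1 : GL2k) : M2).trace = t := by rw [trP_fst, Matrix.trace_transpose, ht]
  have hp' : (trP X p).1.2 = a0 := hp
  have key : (n0 : GG)⁻¹ * (Lam X p)⁻¹ * n0 = Lam X (trP X p) := by
    have := congrArg (fun z : GG => z⁻¹) (n0_Lam X p)
    simpa [mul_assoc] using this
  rw [show n0 * u * (n0 : GG)⁻¹ * (Lam X p)⁻¹ =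
    n0 * (Lam X (trP X p) * ((Lam X (trP X p))⁻¹ * u * Lam X (trP X p))) * (n0 : GG)⁻¹ by
      rw [show Lam X (trP X p) * ((Lam X (trP X p))⁻¹ * u * Lam X (trP X p)) = u * Lam X (trP X p) by group,
        ← key]; group]
  exact (CE_Lam_mul X h hN h1 hp' ht' (Lam_conj' X _ hu)).conj X h hN (n0_mem X)

/-- A matrix of determinant one that is a product of the required kind. -/
def GoodMat (l : GL2k) : Prop :=
  (l : M2).det = 1 ∧ (l = 1 ∨ (l : M2).trace ≠ 2 ∧ (l : M2) ≠ -1)

/-- An element of the Levi complement with trivial parameter and matrix of the required kind. -/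
def GoodP (p : ↥(LP X)) : Prop := p.1.2 = 1 ∧ GoodMat X p.1.1

include h1 in
theorem exists_CE_mul {l : ↥(LP X)} (hl : GoodP X l) {u v : GG} (hu : u ∈ U1 X) (hv : v ∈ V1 X) :
    ∃ a b : GG, CE X h hN a ∧ CE X h hN b ∧ v * Lam X l * u = a * b := by
  obtain ⟨hl0, hl1, hl2⟩ := hl
  obtain ⟨y, y1, y2, y3, y4⟩ := exists_factor h (l.1.1 : M2) hl1
    (hl2.imp (fun e => by rw [e, Units.val_one]) id)
  let Y : ↥(LP X) := ⟨(Matrix.GeneralLinearGroup.mkOfDetNeZero y (by rw [y2]; exact h.hd0), a0),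
    (mem_LP X).2 (by rw [hN]; apply Units.ext; exact (Matrix.GeneralLinearGroup.val_det_apply _).trans y2)⟩
  refine ⟨v * (Lam X Y)⁻¹, Lam X (Y * l) * u, CE_mul_Lam_inv X h hN h1 rfl y1 hv,
    CE_Lam_mul X h hN h1 ?_ y3 hu, by rw [map_mul]; group⟩
  show a0 * l.1.2 = a0
  rw [hl0, mul_one]

end Cfsg.Lib.DFourCover
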