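import Cfsg.Agent.Chev.Tw.Inst
import Cfsg.Agent.Chev.GTwoOdd.Cent
import Cfsg.Agent.Known.DFourCover.Two

/-! The copies of `SL₂` of the two classes of fundamental roots of a triality group, and the Levi complement
of the parabolic subgroup of the fixed fundamental root. -/

set_option autoImplicit false
set_option linter.unusedSectionVars false

open Cfsg.Lie

namespace Cfsg.Lib.DFourCover

open Cfsg.Lib.Chev
open Cfsg.Lib.GTwoOdd (hom_ext dM mat_dM dM_eq wM_eq dconj mat_dconj dconj_uM dconj_lM dl dl_val glD toG toG_val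
  dl_toG dl_glD)

/-- The data of the triality group. -/
abbrev XD (K : Type*) [Field K] := Tw chevD4 chevG2 D4.cert G2.cert D4.tw D4.htTab K

/-- The Chevalley structure of type `D₄`. -/
noncomputable abbrev S4 : Struct chevD4 D4.cert := D4.struct

section SL2

variable {F : Type*} [Field F] {G : Type*} [Group G]

local notation "SL2F" => Matrix.SpecialLinearGroup (Fin 2) F

theorem sl2_induction {P : SL2F → Prop} (hmul : ∀ x y, P x → P y → P (x * y)) (hu : ∀ t, P (uM t))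
    (hl : ∀ t, P (lM t)) (X : SL2F) : P X := by
  have gen : ∀ X : SL2F, mat X 1 0 ≠ 0 → P X := fun X hc => by
    have hd := mat_det X
    have : X = uM ((mat X 0 0 - 1) / mat X 1 0) * lM (mat X 1 0) * uM ((mat X 1 1 - 1) / mat X 1 0) := by
      apply mat_inj
      rw [Matrix.eta_fin_two (mat X)]
      ext i j
      fin_cases i <;> fin_cases j <;>
        simp [mat_mul, mat_uM, mat_lM, Matrix.mul_apply, Fin.sum_univ_two] <;> field_simp
      all_goals first | ring1 | linear_combination hd | linear_combination -hd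
    rw [this]
    exact hmul _ _ (hmul _ _ (hu _) (hl _)) (hu _)
  by_cases hc : mat X 1 0 = 0
  · have hd := mat_det X
    have h1 : mat (X * lM 1) 1 0 ≠ 0 := by
      intro e
      simp [mat_mul, mat_lM, Matrix.mul_apply, Fin.sum_univ_two, hc] at e
      simp [hc, e] at hd
    have e : X = X * lM 1 * lM (-1) := by
      apply mat_inj
      ext i j
      fin_cases i <;> fin_cases j <;> simp [mat_mul, mat_lM, Matrix.mul_apply, Fin.sum_univ_two]
    rw [e]
    exact hmul _ _ (gen _ h1) (hl _)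
  · exact gen X hc

theorem hom_mem {φ : SL2F →* G} {H : Subgroup G} (hu : ∀ t, φ (uM t) ∈ H) (hl : ∀ t, φ (lM t) ∈ H) (X : SL2F) :
    φ X ∈ H :=
  sl2_induction (P := fun X => φ X ∈ H) (fun x y hx hy => by rw [map_mul]; exact mul_mem hx hy) hu hl X

theorem hom_commute {φ : SL2F →* G} {g : G} (hu : ∀ t, Commute g (φ (uM t))) (hl : ∀ t, Commute g (φ (lM t)))
    (X : SL2F) : Commute g (φ X) :=
  sl2_induction (P := fun X => Commute g (φ X)) (fun x y hx hy => by rw [map_mul]; exact hx.mul_right hy) hu hl X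

end SL2

variable {K : Type*} [Field K] [Fintype K]

local notation "GG" => GL chevD4.Idx K

/-- A root element of type `D₄`. -/
noncomputable def xx (r : ℕ) (t : K) : GG := S4.ok.xG r t

theorem xx_add (r : ℕ) (t u : K) : (xx r t * xx r u : GG) = xx r (t + u) := S4.ok.xG_mul r t u

theorem xx_zero (r : ℕ) : (xx r (0 : K) : GG) = 1 := S4.xG_zero r

theorem xx_inv (r : ℕ) (t : K) : (xx r t : GG)⁻¹ = xx r (-t) := S4.ok.xG_inv r t

theorem d4_vals : chevD4.rank = 4 ∧ chevD4.nroots = 24 ∧ chevD4.nroots / 2 = 12 := by decide +kernel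

theorem lt24 {r : ℕ} (h : r < 24) : r < chevD4.nroots := d4_vals.2.1.symm ▸ h

/-- The fundamental root with index `0`. -/
def ia : Fin chevD4.rank := ⟨0, by decide +kernel⟩
/-- The fundamental root with index `1`. -/
def ib : Fin chevD4.rank := ⟨1, by decide +kernel⟩
/-- The fundamental root with index `2`. -/
def ic : Fin chevD4.rank := ⟨2, by decide +kernel⟩
/-- The fundamental root with index `3`. -/
def ie : Fin chevD4.rank := ⟨3, by decide +kernel⟩

theorem simple_vals : (chevD4.simple (ia : Fin chevD4.rank) = 18 ∧ chevD4.neg 18 = 5) ∧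
    (chevD4.simple (ib : Fin chevD4.rank) = 14 ∧ chevD4.neg 14 = 9) ∧
    (chevD4.simple (ic : Fin chevD4.rank) = 13 ∧ chevD4.neg 13 = 10) ∧
    (chevD4.simple (ie : Fin chevD4.rank) = 12 ∧ chevD4.neg 12 = 11) := by decide +kernel

/-- The `SL₂` of a fundamental root. -/
noncomputable def fi (i : Fin chevD4.rank) : Matrix.SpecialLinearGroup (Fin 2) K →* GG :=
  ((S4.sl2Rel_simple (F := K) i).exists_hom).choose

theorem fi_uM (i : Fin chevD4.rank) (t : K) : fi i (uM t) = xx (chevD4.simple i) t :=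
  ((S4.sl2Rel_simple (F := K) i).exists_hom).choose_spec.1 t

theorem fi_lM (i : Fin chevD4.rank) (t : K) : fi i (lM t) = xx (chevD4.neg (chevD4.simple i)) t :=
  ((S4.sl2Rel_simple (F := K) i).exists_hom).choose_spec.2.1 t

theorem fi_wM (i : Fin chevD4.rank) : fi i (wM : Matrix.SpecialLinearGroup (Fin 2) K) = S4.nL K [i] := by
  rw [wM_eq, map_mul, map_mul, fi_uM, fi_lM]
  simp [Struct.nL, Ok.nG, xx]

theorem fi_dM (i : Fin chevD4.rank) (s : Kˣ) : fi i (dM s) = Ok.tG chevD4 K (Pi.mulSingle i s) := by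
  rw [dM_eq, ← S4.ok.hG_simple_eq_tG]
  simp only [map_mul, fi_uM, fi_lM]
  rfl

theorem commute_xx {r s : ℕ} (hr : r < 24) (hs : s < 24) (h : TwDat.commOK chevD4 r s = true) (t u : K) :
    Commute (xx r t : GG) (xx s u) :=
  S4.commute_of_commOK (lt24 hr) (lt24 hs) h t u

theorem orb_comm : ∀ p ∈ [(18, 13), (18, 10), (5, 13), (5, 10), (18, 12), (18, 11), (5, 12), (5, 11), (13, 12),
    (13, 11), (10, 12), (10, 11)], p.1 < 24 ∧ p.2 < 24 ∧ TwDat.commOK chevD4 p.1 p.2 = true := by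
  decide +kernel

theorem commute_orb {r s : ℕ} (h : (r, s) ∈ [(18, 13), (18, 10), (5, 13), (5, 10), (18, 12), (18, 11), (5, 12),
    (5, 11), (13, 12), (13, 11), (10, 12), (10, 11)]) (t u : K) : Commute (xx r t : GG) (xx s u) := by
  obtain ⟨a, b, c⟩ := orb_comm _ h
  exact commute_xx a b c t u

theorem fi_comm_ac (A B : Matrix.SpecialLinearGroup (Fin 2) K) : Commute (fi ia A) (fi ic B) := by
  obtain ⟨⟨a1, a2⟩, -, ⟨c1, c2⟩, -⟩ := simple_vals
  refine hom_commute (fun u => ?_) (fun u => ?_) B <;>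
    (rw [Commute.symm_iff]; refine hom_commute (fun t => ?_) (fun t => ?_) A) <;>
    simp only [fi_uM, fi_lM, a1, a2, c1, c2] <;> exact (commute_orb (by simp) _ _).symm

theorem fi_comm_ae (A B : Matrix.SpecialLinearGroup (Fin 2) K) : Commute (fi ia A) (fi ie B) := by
  obtain ⟨⟨a1, a2⟩, -, -, ⟨c1, c2⟩⟩ := simple_vals
  refine hom_commute (fun u => ?_) (fun u => ?_) B <;>
    (rw [Commute.symm_iff]; refine hom_commute (fun t => ?_) (fun t => ?_) A) <;>
    simp only [fi_uM, fi_lM, a1, a2, c1, c2] <;> exact (commute_orb (by simp) _ _).symm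

theorem fi_comm_ce (A B : Matrix.SpecialLinearGroup (Fin 2) K) : Commute (fi ic A) (fi ie B) := by
  obtain ⟨-, -, ⟨a1, a2⟩, ⟨c1, c2⟩⟩ := simple_vals
  refine hom_commute (fun u => ?_) (fun u => ?_) B <;>
    (rw [Commute.symm_iff]; refine hom_commute (fun t => ?_) (fun t => ?_) A) <;>
    simp only [fi_uM, fi_lM, a1, a2, c1, c2] <;> exact (commute_orb (by simp) _ _).symm

variable (X : XD K)

/-- The field of the fixed points of the field automorphism. -/
noncomputable def kF : Subfield K := RingHom.eqLocusField X.f (RingHom.id K)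

theorem mem_kF {t : K} : t ∈ kF X ↔ X.f t = t := Iff.rfl

noncomputable instance kFintype : Fintype (kF X) := Fintype.ofFinite _

theorem card_kF : Fintype.card (kF X) = X.q := by
  rw [← Nat.card_eq_fintype_card]
  exact card_pow_eq_self X.hq (by norm_num : 1 ≤ 3) X.hfq X.hcard

theorem f_three (t : K) : X.f (X.f (X.f t)) = t := X.f_iter t

theorem f_coe (z : kF X) : X.f (z : K) = (z : K) := z.2

/-- The field automorphism on units. -/
noncomputable def s1 : Kˣ →* Kˣ := Units.map X.f.toMonoidHom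

theorem s1_val (a : Kˣ) : ((s1 X a : Kˣ) : K) = X.f a := rfl

theorem s1_three (a : Kˣ) : s1 X (s1 X (s1 X a)) = a := Units.ext (f_three X a)

/-- The norm. -/
noncomputable def Nk : Kˣ →* (kF X)ˣ where
  toFun a :=
    Units.mk0 ⟨(a : K) * X.f a * X.f (X.f a), by
      rw [mem_kF, map_mul, map_mul, f_three X]; ring⟩ (by
      intro e
      have e' : (a : K) * X.f a * X.f (X.f a) = 0 := congrArg Subtype.val e
      simp [a.ne_zero] at e')
  map_one' := by ext; simp
  map_mul' a b := by ext; simp; ring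

theorem Nk_val (a : Kˣ) : (((Nk X a : (kF X)ˣ) : kF X) : K) = (a : K) * X.f a * X.f (X.f a) := rfl

/-! ### The torus -/

/-- The parameters of an element of the torus. -/
noncomputable def cv (a b : Kˣ) : Fin chevD4.rank → Kˣ := (![a, b, s1 X a, s1 X (s1 X a)] : Fin 4 → Kˣ)

/-- An element of the torus. -/
noncomputable def tor (a b : Kˣ) : GG := Ok.tG chevD4 K (cv X a b)

/-- The Cartan integers of a root. -/
def cc (r : ℕ) : ℤ × ℤ × ℤ × ℤ := (chevD4.cartan 0 r, chevD4.cartan 1 r, chevD4.cartan 2 r, chevD4.cartan 3 r)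

theorem cc_list : [9, 12, 13, 14, 15, 16, 17, 18, 19, 20, 21, 22, 23].map cc =
    [(1, -2, 1, 1), (0, -1, 0, 2), (0, -1, 2, 0), (-1, 2, -1, -1), (-1, 1, -1, 1), (-1, 1, 1, -1), (-1, 0, 1, 1),
     (2, -1, 0, 0), (1, 1, -1, -1), (1, 0, -1, 1), (1, 0, 1, -1), (1, -1, 1, 1), (0, 1, 0, 0)] := by
  decide +kernel

theorem cc_vals : cc 9 = (1, -2, 1, 1) ∧ cc 12 = (0, -1, 0, 2) ∧ cc 13 = (0, -1, 2, 0) ∧
    cc 14 = (-1, 2, -1, -1) ∧ cc 15 = (-1, 1, -1, 1) ∧ cc 16 = (-1, 1, 1, -1) ∧ cc 17 = (-1, 0, 1, 1) ∧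
    cc 18 = (2, -1, 0, 0) ∧ cc 19 = (1, 1, -1, -1) ∧ cc 20 = (1, 0, -1, 1) ∧ cc 21 = (1, 0, 1, -1) ∧
    cc 22 = (1, -1, 1, 1) ∧ cc 23 = (0, 1, 0, 0) := by
  have h := cc_list
  simp only [List.map_cons, List.map_nil, List.cons.injEq, and_true] at h
  exact h

/-- The character of a root on the torus. -/
noncomputable def chi (r : ℕ) (a b : Kˣ) : Kˣ :=
  a ^ (cc r).1 * b ^ (cc r).2.1 * s1 X a ^ (cc r).2.2.1 * s1 X (s1 X a) ^ (cc r).2.2.2

theorem tor_conj {r : ℕ} (hr : r < 24) (a b : Kˣ) (t : K) :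
    tor X a b * xx r t * (tor X a b)⁻¹ = xx r ((chi X r a b : K) * t) := by
  rw [tor, xx, S4.tG_conj_xG (lt24 hr)]
  congr 3
  show (∏ i : Fin 4, cv X a b i ^ chevD4.cartan i.val r : Kˣ) = _
  rw [Fin.prod_univ_four]
  rfl

theorem tor_mul (a b a' b' : Kˣ) : tor X (a * a') (b * b') = tor X a b * tor X a' b' := by
  rw [tor, tor, tor, ← map_mul]
  congr 1
  funext i
  rw [Pi.mul_apply]
  change Fin 4 at i
  fin_cases i <;> simp [cv]

theorem tor_mem_T1 (a : Kˣ) (b : (kF X)ˣ) : tor X a (Units.map (kF X).subtype.toMonoidHom b) ∈ X.T1 := by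
  refine ⟨_, fun i => ?_, rfl⟩
  have hp : ∀ j : Fin 4, (X.piF j).val = ([2, 1, 3, 0] : List ℕ).getD j.val 0 := fun j => rfl
  change Fin 4 at i
  have e := hp i
  generalize hj : X.piF i = j
  rw [hj] at e
  change Fin 4 at j
  fin_cases i <;> fin_cases j <;> simp at e <;> simp [cv, s1_val, f_three X, f_coe]

theorem exists_tor {g : GG} (hg : g ∈ X.T1) :
    ∃ (a : Kˣ) (b : (kF X)ˣ), g = tor X a (Units.map (kF X).subtype.toMonoidHom b) := by
  obtain ⟨c, hc, rfl⟩ := hg
  let c' : Fin 4 → Kˣ := c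
  have h0 : X.f (c' 0) = c' 2 := hc (0 : Fin 4)
  have h1 : X.f (c' 1) = c' 1 := hc (1 : Fin 4)
  have h2 : X.f (c' 2) = c' 3 := hc (2 : Fin 4)
  refine ⟨c' 0, Units.mk0 ⟨(c' 1 : K), h1⟩ fun e => (c' 1).ne_zero (congrArg Subtype.val e), ?_⟩
  rw [tor]
  congr 1
  funext i
  change Fin 4 at i
  show c' i = _
  fin_cases i <;> apply Units.ext <;> simp [cv, s1_val, h0, h2]

/-! ### The homomorphisms -/

local notation "k" => kF X
local notation "SL2K" => Matrix.SpecialLinearGroup (Fin 2) K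
local notation "SL2k" => Matrix.SpecialLinearGroup (Fin 2) (kF X)
local notation "GL2k" => GL (Fin 2) (kF X)

/-- The `SL₂` of the moved class of fundamental roots. -/
noncomputable def fA : SL2K →* GG :=
  MonoidHom.mk' (fun A => fi ia A * fi ic (Matrix.SpecialLinearGroup.map X.f A) *
      fi ie (Matrix.SpecialLinearGroup.map X.f (Matrix.SpecialLinearGroup.map X.f A))) fun A B => by
    simp only [map_mul]
    set σA := Matrix.SpecialLinearGroup.map X.f A
    set σB := Matrix.SpecialLinearGroup.map X.f B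
    rw [show fi ia A * fi ia B * (fi ic σA * fi ic σB) * (fi ie (Matrix.SpecialLinearGroup.map X.f σA) *
        fi ie (Matrix.SpecialLinearGroup.map X.f σB)) = fi ia A * (fi ia B * fi ic σA) * (fi ic σB *
        fi ie (Matrix.SpecialLinearGroup.map X.f σA)) * fi ie (Matrix.SpecialLinearGroup.map X.f σB)
        by simp only [mul_assoc],
      (fi_comm_ac B σA).eq, (fi_comm_ce σB _).eq]
    simp only [mul_assoc]
    rw [← mul_assoc (fi ia B) (fi ie _), (fi_comm_ae B _).eq]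
    simp only [mul_assoc]

theorem fA_apply (A : SL2K) : fA X A = fi ia A * fi ic (Matrix.SpecialLinearGroup.map X.f A) *
    fi ie (Matrix.SpecialLinearGroup.map X.f (Matrix.SpecialLinearGroup.map X.f A)) := rfl

/-- The `SL₂` of the fixed fundamental root. -/
noncomputable def fb : SL2k →* GG :=
  (fi ib).comp (Matrix.SpecialLinearGroup.map (kF X).subtype)

theorem map_uM {F F' : Type*} [Field F] [Field F'] (φ : F →+* F') (t : F) :
    Matrix.SpecialLinearGroup.map φ (uM t) = uM (φ t) := by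
  apply mat_inj; ext i j; rw [mat, Matrix.SpecialLinearGroup.map_apply_coe]; fin_cases i <;> fin_cases j <;> simp [mat, uM]

theorem map_lM {F F' : Type*} [Field F] [Field F'] (φ : F →+* F') (t : F) :
    Matrix.SpecialLinearGroup.map φ (lM t) = lM (φ t) := by
  apply mat_inj; ext i j; rw [mat, Matrix.SpecialLinearGroup.map_apply_coe]; fin_cases i <;> fin_cases j <;> simp [mat, lM]

theorem map_wM {F F' : Type*} [Field F] [Field F'] (φ : F →+* F') :
    Matrix.SpecialLinearGroup.map φ (wM : Matrix.SpecialLinearGroup (Fin 2) F) = wM := by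
  apply mat_inj; ext i j; rw [mat, Matrix.SpecialLinearGroup.map_apply_coe]; fin_cases i <;> fin_cases j <;> simp [mat, wM]

theorem map_dM {F F' : Type*} [Field F] [Field F'] (φ : F →+* F') (s : Fˣ) :
    Matrix.SpecialLinearGroup.map φ (dM s) = dM (Units.map φ.toMonoidHom s) := by
  apply mat_inj; ext i j; rw [mat, Matrix.SpecialLinearGroup.map_apply_coe]; fin_cases i <;> fin_cases j <;> simp [mat, dM]

theorem fA_uM (t : K) : fA X (uM t) = xx 18 t * xx 13 (X.f t) * xx 12 (X.f (X.f t)) := by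
  rw [fA_apply, map_uM, map_uM, fi_uM, fi_uM, fi_uM, simple_vals.1.1, simple_vals.2.2.1.1, simple_vals.2.2.2.1]

theorem fA_lM (t : K) : fA X (lM t) = xx 5 t * xx 10 (X.f t) * xx 11 (X.f (X.f t)) := by
  rw [fA_apply, map_lM, map_lM, fi_lM, fi_lM, fi_lM, simple_vals.1.1, simple_vals.2.2.1.1, simple_vals.2.2.2.1,
    simple_vals.1.2, simple_vals.2.2.1.2, simple_vals.2.2.2.2]

theorem fb_uM (t : k) : fb X (uM t) = xx 14 (t : K) := by
  rw [fb, MonoidHom.comp_apply, map_uM, fi_uM, simple_vals.2.1.1]; rfl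

theorem fb_lM (t : k) : fb X (lM t) = xx 9 (t : K) := by
  rw [fb, MonoidHom.comp_apply, map_lM, fi_lM, simple_vals.2.1.1, simple_vals.2.1.2]; rfl

theorem fA_wM : fA X (wM : SL2K) = S4.nL K [ia, ic, ie] := by
  rw [fA_apply, map_wM, map_wM, fi_wM, fi_wM, fi_wM]
  simp [Struct.nL, mul_assoc]

theorem fb_wM : fb X (wM : SL2k) = S4.nL K [ib] := by
  rw [fb, MonoidHom.comp_apply, map_wM, fi_wM]

theorem fA_dM (a : Kˣ) : fA X (dM a) = tor X a 1 := by
  rw [fA_apply, map_dM, map_dM, fi_dM, fi_dM, fi_dM, tor, ← map_mul, ← map_mul]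
  congr 1
  funext ⟨i, hi⟩
  rw [Pi.mul_apply, Pi.mul_apply, Pi.mulSingle_apply, Pi.mulSingle_apply, Pi.mulSingle_apply]
  simp only [ia, ic, ie, Fin.ext_iff]
  have hi' : i < 4 := d4_vals.1 ▸ hi
  interval_cases i <;> apply Units.ext <;> simp [cv, s1] <;> rfl

theorem fb_dM (b : (kF X)ˣ) : fb X (dM b) = tor X 1 (Units.map (kF X).subtype.toMonoidHom b) := by
  rw [fb, MonoidHom.comp_apply, map_dM, fi_dM, tor]
  congr 1
  funext ⟨i, hi⟩
  rw [Pi.mulSingle_apply]
  simp only [ib, Fin.ext_iff]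
  have hi' : i < 4 := d4_vals.1 ▸ hi
  interval_cases i <;> apply Units.ext <;> simp [cv] <;> rfl

theorem orb_eps (r : ℕ) (hr : r ∈ [18, 13, 12, 5, 10, 11, 14, 9]) : X.eps r = 1 := by
  show ((D4.tw.G.eps chevD4.rank r : ℤ) : K) = 1
  rw [D4.tw_eps r hr, Int.cast_one]

theorem orP_vals : X.orP 0 = [18, 13, 12] ∧ X.orN 0 = [5, 10, 11] ∧ X.orP 1 = [14] ∧ X.orN 1 = [9] :=
  ⟨rfl, rfl, rfl, rfl⟩

theorem fA_mem (A : SL2K) : fA X A ∈ X.G1 := by
  refine hom_mem (fun t => ?_) (fun t => ?_) A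
  · have e : fA X (uM t) = X.y [18, 13, 12] t := by
      rw [fA_uM]
      simp [Tw.y, Tw.orbW, Ok.wG, orb_eps X 18 (by simp), orb_eps X 13 (by simp), xx, mul_assoc]
    rw [e]
    refine X.y_mem_G1 (a := 0) (by decide +kernel) (Or.inl (orP_vals X).1.symm) ?_
    show X.nxt _ t = t
    simp [Tw.nxt, orb_eps X 18 (by simp), orb_eps X 13 (by simp), orb_eps X 12 (by simp), f_three X]
  · have e : fA X (lM t) = X.y [5, 10, 11] t := by
      rw [fA_lM]
      simp [Tw.y, Tw.orbW, Ok.wG, orb_eps X 5 (by simp), orb_eps X 10 (by simp), xx, mul_assoc]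
    rw [e]
    refine X.y_mem_G1 (a := 0) (by decide +kernel) (Or.inr (orP_vals X).2.1.symm) ?_
    show X.nxt _ t = t
    simp [Tw.nxt, orb_eps X 5 (by simp), orb_eps X 10 (by simp), orb_eps X 11 (by simp), f_three X]

theorem fb_mem (A : SL2k) : fb X A ∈ X.G1 := by
  refine hom_mem (fun t => ?_) (fun t => ?_) A
  · have e : fb X (uM t) = X.y [14] (t : K) := by rw [fb_uM]; simp [Tw.y, Tw.orbW, Ok.wG, xx]
    rw [e]
    refine X.y_mem_G1 (a := 1) (by decide +kernel) (Or.inl (orP_vals X).2.2.1.symm) ?_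
    show X.nxt _ (t : K) = t
    simp [Tw.nxt, orb_eps X 14 (by simp), f_coe]
  · have e : fb X (lM t) = X.y [9] (t : K) := by rw [fb_lM]; simp [Tw.y, Tw.orbW, Ok.wG, xx]
    rw [e]
    refine X.y_mem_G1 (a := 1) (by decide +kernel) (Or.inr (orP_vals X).2.2.2.symm) ?_
    show X.nxt _ (t : K) = t
    simp [Tw.nxt, orb_eps X 9 (by simp), f_coe]

/-- The torus of the moved class of fundamental roots. -/
noncomputable def hA : Kˣ →* GG := MonoidHom.mk' (fun a => tor X a 1) fun a b => by rw [← tor_mul, one_mul]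

theorem hA_apply (a : Kˣ) : hA X a = tor X a 1 := rfl

theorem hA_mem (a : Kˣ) : hA X a ∈ X.G1 := by rw [hA_apply, ← fA_dM]; exact fA_mem X _

theorem hA_fb (a : Kˣ) (Y : SL2k) : hA X a * fb X Y = fb X (dconj (Nk X a)⁻¹ Y) * hA X a := by
  have h : (MulAut.conj (hA X a)).toMonoidHom.comp (fb X) = (fb X).comp (dconj (Nk X a)⁻¹) := by
    obtain ⟨c9, -, -, c14, -⟩ := cc_vals
    refine hom_ext (fun u => ?_) (fun u => ?_)
    · show hA X a * fb X (uM u) * (hA X a)⁻¹ = fb X (dconj (Nk X a)⁻¹ (uM u))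
      rw [fb_uM, hA_apply, tor_conj X (by norm_num), dconj_uM, fb_uM]
      congr 1
      simp [chi, c14, s1_val, Nk_val]
      left
      ring
    · show hA X a * fb X (lM u) * (hA X a)⁻¹ = fb X (dconj (Nk X a)⁻¹ (lM u))
      rw [fb_lM, hA_apply, tor_conj X (by norm_num), dconj_lM, fb_lM]
      congr 1
      simp [chi, c9, s1_val, Nk_val]
  exact mul_inv_eq_iff_eq_mul.1 (DFunLike.congr_fun h Y)

/-! ### The Levi complement -/

/-- `A · diag(1, det A)⁻¹`. -/
noncomputable def sB (A : GL2k) : SL2k :=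
  ⟨!![(A : Matrix (Fin 2) (Fin 2) (kF X)) 0 0, (dl A : k)⁻¹ * (A : Matrix (Fin 2) (Fin 2) (kF X)) 0 1;
      (A : Matrix (Fin 2) (Fin 2) (kF X)) 1 0, (dl A : k)⁻¹ * (A : Matrix (Fin 2) (Fin 2) (kF X)) 1 1], by
    have h := (dl A).ne_zero
    have e := dl_val A
    simp [Matrix.det_fin_two]
    field_simp
    linear_combination -e⟩

theorem mat_sB (A : GL2k) : mat (sB X A) = !![(A : Matrix (Fin 2) (Fin 2) (kF X)) 0 0,
    (dl A : k)⁻¹ * (A : Matrix (Fin 2) (Fin 2) (kF X)) 0 1;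
    (A : Matrix (Fin 2) (Fin 2) (kF X)) 1 0, (dl A : k)⁻¹ * (A : Matrix (Fin 2) (Fin 2) (kF X)) 1 1] := rfl

theorem sB_mul (A C : GL2k) : sB X (A * C) = sB X A * dconj (dl A)⁻¹ (sB X C) := by
  apply mat_inj
  rw [mat_mul, mat_dconj, mat_sB, mat_sB, mat_sB, map_mul]
  ext i j
  fin_cases i <;> fin_cases j <;>
    simp [Matrix.mul_apply, Fin.sum_univ_two] <;> field_simp

theorem sB_one : sB X (1 : GL2k) = 1 := by
  apply mat_inj
  rw [mat_sB, map_one, mat_one]
  ext i j
  fin_cases i <;> fin_cases j <;> simp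

/-- The Levi complement: pairs of a matrix and a parameter whose norm is the determinant. -/
noncomputable def LP : Subgroup (GL (Fin 2) (kF X) × Kˣ) :=
  (Matrix.GeneralLinearGroup.det.comp (MonoidHom.fst (GL (Fin 2) (kF X)) Kˣ)).eqLocus
    ((Nk X).comp (MonoidHom.snd (GL (Fin 2) (kF X)) Kˣ))

theorem mem_LP {p : GL (Fin 2) (kF X) × Kˣ} : p ∈ LP X ↔ dl p.1 = Nk X p.2 := Iff.rfl

/-- The Levi complement as a group of matrices. -/
noncomputable def Lam : ↥(LP X) →* GG :=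
  MonoidHom.mk' (fun p => fb X (sB X p.1.1) * hA X p.1.2) fun p q => by
    have hp : dl p.1.1 = Nk X p.1.2 := (mem_LP X).1 p.2
    simp only [Subgroup.coe_mul, Prod.fst_mul, Prod.snd_mul, sB_mul, map_mul, hp]
    calc fb X (sB X p.1.1) * fb X (dconj (Nk X p.1.2)⁻¹ (sB X q.1.1)) * (hA X p.1.2 * hA X q.1.2)
        = fb X (sB X p.1.1) * (fb X (dconj (Nk X p.1.2)⁻¹ (sB X q.1.1)) * hA X p.1.2) * hA X q.1.2 := by
          simp only [mul_assoc]
      _ = _ := by rw [← hA_fb]; simp only [mul_assoc]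

theorem Lam_apply (p : ↥(LP X)) : Lam X p = fb X (sB X p.1.1) * hA X p.1.2 := rfl

theorem Lam_mem (p : ↥(LP X)) : Lam X p ∈ X.G1 := mul_mem (fb_mem X _) (hA_mem X _)

/-- An element of determinant one in the Levi complement. -/
noncomputable def toP : SL2k →* ↥(LP X) :=
  MonoidHom.mk' (fun Y => ⟨(toG Y, 1), (mem_LP X).2 (by rw [map_one]; exact dl_toG Y)⟩) fun Y Z =>
    Subtype.ext (Prod.ext (map_mul Matrix.SpecialLinearGroup.toGL Y Z) (mul_one _).symm)

theorem toP_fst (Y : SL2k) : ((toP X Y).1.1 : GL2k) = toG Y := rfl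
theorem toP_snd (Y : SL2k) : ((toP X Y).1.2 : Kˣ) = 1 := rfl

/-- A torus element of the Levi complement. -/
noncomputable def hP (c : Kˣ) : ↥(LP X) :=
  ⟨(glD 1 (Nk X c), c), (mem_LP X).2 (by rw [dl_glD, one_mul])⟩

theorem hP_fst (c : Kˣ) : ((hP X c).1.1 : GL2k) = glD 1 (Nk X c) := rfl
theorem hP_snd (c : Kˣ) : ((hP X c).1.2 : Kˣ) = c := rfl

theorem Lam_toP (Y : SL2k) : Lam X (toP X Y) = fb X Y := by
  rw [Lam_apply, toP_snd, map_one, mul_one, toP_fst]
  congr 1
  apply mat_inj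
  rw [mat_sB, dl_toG]
  ext i j
  fin_cases i <;> fin_cases j <;> simp [toG_val]

theorem glD_val' (a b : (kF X)ˣ) : (glD a b : Matrix (Fin 2) (Fin 2) (kF X)) = !![(a : k), 0; 0, (b : k)] := rfl

theorem Lam_hP (c : Kˣ) : Lam X (hP X c) = hA X c := by
  rw [Lam_apply, hP_snd, hP_fst]
  convert one_mul (hA X c)
  convert map_one (fb X)
  apply mat_inj
  rw [mat_sB, dl_glD, mat_one, glD_val']
  ext i j
  fin_cases i <;> fin_cases j <;> simp

theorem T1_Lam {g : GG} (hg : g ∈ X.T1) :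
    ∃ (a : Kˣ) (b : (kF X)ˣ), g = Lam X (hP X a * toP X (dM b)) := by
  obtain ⟨a, b, rfl⟩ := exists_tor X hg
  refine ⟨a, b, ?_⟩
  rw [map_mul, Lam_hP, Lam_toP, hA_apply, fb_dM, ← tor_mul, one_mul, mul_one]

end Cfsg.Lib.DFourCover
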