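import Cfsg.Agent.Known.DFourCover.Cells
import Cfsg.Agent.Known.DFourCover.Choices

/-! A triality group has a semisimple class whose square contains every non-identity element. -/

set_option autoImplicit false
set_option linter.unusedSectionVars false

open Cfsg.Lie

namespace Cfsg.Lib.DFourCover

open Cfsg.Lib.Chev
open Cfsg.Lib.GTwoOdd (hom_ext dM mat_dM dconj mat_dconj dl dl_val glD toG toG_val dl_toG dl_glD)
open Cfsg.Lib.SpFourCover (comp2 comp2_trace comp2_det exists_ellipticPair)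

variable {K : Type*} [Field K] [Fintype K]

local notation "GG" => GL chevD4.Idx K

theorem shift_roots : wl WA 14 = 22 ∧ wl (invW WA) 14 = 22 ∧ wl (WA ++ WB ++ WA) 14 = 23 ∧
    wl (invW (WA ++ WB ++ WA)) 14 = 23 := by decide +kernel

/-! ### Words -/

/-- Representatives of the twelve elements of the twisted Weyl group. -/
def wordsK : List (List ℕ) :=
  [[], [0], [1], [0, 1], [1, 0], [0, 1, 0], [1, 0, 1], [0, 1, 0, 1], [1, 0, 1, 0], [0, 1, 0, 1, 0],
    [1, 0, 1, 0, 1], [0, 1, 0, 1, 0, 1]]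

/-- The image of a root under a word of orbits. -/
noncomputable def wK (L : List ℕ) (r : ℕ) : ℕ := D4.cert.wL (D4.tw.flat L) r

theorem wK_cons (a : ℕ) (L : List ℕ) (r : ℕ) : wK (a :: L) r = D4.cert.wL (D4.tw.orbAt a) (wK L r) := by
  have h : ∀ (A B : List ℕ), D4.cert.wL (A ++ B) r = D4.cert.wL A (D4.cert.wL B r) := by
    intro A B
    induction A with
    | nil => rfl
    | cons x A ih => simp only [List.cons_append, Cert.wL_cons, ih]
  simp only [wK, TwDat.flat, kflat_eq, List.flatMap_cons, h]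

theorem words_step : ∀ a ∈ [0, 1], ∀ L ∈ wordsK, ∃ L' ∈ wordsK,
    (List.range 24).map (wK (a :: L)) = (List.range 24).map (wK L') := by decide +kernel

theorem exists_word : ∀ L : List ℕ, (∀ a ∈ L, a < 2) → ∃ L' ∈ wordsK, ∀ r < 24, wK L r = wK L' r
  | [], _ => ⟨[], by simp [wordsK], fun _ _ => rfl⟩
  | a :: L, h => by
    obtain ⟨L', hL', e⟩ := exists_word L fun b hb => h b (List.mem_cons_of_mem _ hb)
    have ha := h a List.mem_cons_self
    obtain ⟨L'', hL'', e''⟩ := words_step a (by simp; omega) L' hL'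
    refine ⟨L'', hL'', fun r hr => ?_⟩
    rw [wK_cons, e r hr, ← wK_cons]
    exact List.map_inj_left.1 e'' r (List.mem_range.2 hr)

theorem word_cases : ∀ L ∈ wordsK,
    (∃ a ∈ [[], WB], (List.range 24).map (wK L) = (List.range 24).map (wl a)) ∨
    ∃ a ∈ [[], WB], ∃ c ∈ [[], WB], ∃ s ∈ [WA, WA ++ WB ++ WA, WD],
      (List.range 24).map (wK L) = (List.range 24).map (wl (a ++ s ++ c)) := by decide +kernel

variable (X : XD K)

local notation "k" => kF X
local notation "SL2K" => Matrix.SpecialLinearGroup (Fin 2) K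
local notation "SL2k" => Matrix.SpecialLinearGroup (Fin 2) (kF X)
local notation "GL2k" => GL (Fin 2) (kF X)
local notation "M2" => Matrix (Fin 2) (Fin 2) (kF X)

theorem det_of_snd_one {p : ↥(LP X)} (h : p.1.2 = 1) : (p.1.1 : M2).det = 1 := by
  have e := (mem_LP X).1 p.2
  rw [h, map_one] at e
  exact (Matrix.GeneralLinearGroup.val_det_apply _).symm.trans (congrArg Units.val e)

theorem goodP_of {p : ↥(LP X)} (h : p.1.2 = 1) (hm : GoodM (p.1.1 : M2)) : GoodP X p :=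
  ⟨h, hm.1, hm.2.imp_left fun e => Units.ext (e.trans Units.val_one.symm)⟩

theorem val_fst_mul (p r : ↥(LP X)) : (((p * r).1.1 : GL2k) : M2) = (p.1.1 : M2) * (r.1.1 : M2) := rfl

theorem val_toP (Y : SL2k) : (((toP X Y).1.1 : GL2k) : M2) = mat Y := rfl

variable {t : ↥(kF X)} {d : (kF X)ˣ}
variable (h : Ell t (d : ↥(kF X))) {a0 : Kˣ} (hN : Nk X a0 = d) (h1 : a0 ≠ 1)

/-- A product of two elements of the class. -/
def Good (g : GG) : Prop := ∃ a b : GG, CE X h hN a ∧ CE X h hN b ∧ g = a * b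

theorem Good.conj {g c : GG} (hc : c ∈ X.G1) (e : Good X h hN g) : Good X h hN (c * g * c⁻¹) := by
  obtain ⟨a, b, ha, hb, rfl⟩ := e
  exact ⟨c * a * c⁻¹, c * b * c⁻¹, ha.conj X h hN hc, hb.conj X h hN hc, by group⟩

theorem Good.of_conj {g c : GG} (hc : c ∈ X.G1) (e : Good X h hN (c * g * c⁻¹)) : Good X h hN g := by
  simpa [mul_assoc] using e.conj X h hN (inv_mem hc)

include h1 in
theorem good_of_decomp {n : GG} {D p : ↥(LP X)} (hn : Decomp X n D) (hA : GoodP X (D * p)) {u : GG}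
    (hu : u ∈ U1 X) : Good X h hN (n * (Lam X p * u)) := by
  obtain ⟨u₁, hu₁, v, hv, w, hw, e⟩ := hn
  refine Good.of_conj X h hN (U1_le_G1 X hu₁) ?_
  have he : u₁ * (n * (Lam X p * u)) * u₁⁻¹ = v * Lam X (D * p) * ((Lam X p)⁻¹ * w * Lam X p * u * u₁⁻¹) := by
    rw [show u₁ * (n * (Lam X p * u)) * u₁⁻¹ = (u₁ * n) * (Lam X p * u * u₁⁻¹) by group, e, map_mul]; group
  rw [he]
  exact exists_CE_mul X h hN h1 hA (mul_mem (mul_mem (Lam_conj' X p hw) hu) (inv_mem hu₁)) hv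

theorem good_shift {n c c' : GG} {P Q p : ↥(LP X)} (hc : c ∈ X.G1) (hnc : n⁻¹ * c * n = c')
    {u₁ u₂ u : GG} (hu₁ : u₁ ∈ U1 X) (hu₂ : u₂ ∈ U1 X) (hu : u ∈ U1 X) (hc' : c' = Lam X P * u₁)
    (hci : c⁻¹ = Lam X Q * u₂) (hg : ∀ w ∈ U1 X, Good X h hN (n * (Lam X (P * p * Q) * w))) :
    Good X h hN (n * (Lam X p * u)) := by
  refine Good.of_conj X h hN hc ?_
  have e : c * (n * (Lam X p * u)) * c⁻¹ =
      n * (Lam X (P * p * Q) * ((Lam X Q)⁻¹ * ((Lam X p)⁻¹ * u₁ * Lam X p * u) * Lam X Q * u₂)) := by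
    rw [show c * (n * (Lam X p * u)) * c⁻¹ = n * (n⁻¹ * c * n) * (Lam X p * u) * c⁻¹ by group, hnc, hc', hci,
      map_mul, map_mul]
    group
  rw [e]
  exact hg _ (mul_mem (Lam_conj' X Q (mul_mem (Lam_conj' X p hu₁) hu)) hu₂)

theorem xx14_conj {L : List (Fin chevD4.rank)} {s : ℕ} (hL : (nw L : GG) ∈ X.G1) (e : wl L 14 = s) (hs1 : 12 ≤ s)
    (hs2 : s < 24) (hs3 : s ≠ 14) (z : k) : nw L * fb X (uM z) * (nw L : GG)⁻¹ ∈ U1 X := by
  refine Subgroup.mem_inf.2 ⟨?_, mul_mem (mul_mem hL (fb_mem X _)) (inv_mem hL)⟩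
  rw [fb_uM, nw_xx L (by norm_num), e]
  exact xx_mem_UD hs1 hs2 hs3 _

theorem good_left {L : List (Fin chevD4.rank)} {s : ℕ} (hL : (nw L : GG) ∈ X.G1) (e : wl L 14 = s) (hs1 : 12 ≤ s)
    (hs2 : s < 24) (hs3 : s ≠ 14) (z : k) {p : ↥(LP X)} {u : GG} (hu : u ∈ U1 X)
    (hg : ∀ w ∈ U1 X, Good X h hN (nw L * (Lam X (toP X (uM z) * p) * w))) :
    Good X h hN (nw L * (Lam X p * u)) := by
  have hk := xx14_conj X hL e hs1 hs2 hs3 z
  refine good_shift X h hN (c := nw L * fb X (uM z) * (nw L : GG)⁻¹) (c' := fb X (uM z)) (P := toP X (uM z))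
    (Q := 1) (u₁ := 1) (u₂ := (nw L * fb X (uM z) * (nw L : GG)⁻¹)⁻¹) (U1_le_G1 X hk) (by group) (one_mem _)
    (inv_mem hk) hu ?_ ?_ fun w hw => ?_
  · rw [Lam_toP, mul_one]
  · rw [map_one, one_mul]
  · rw [mul_one]; exact hg w hw

theorem good_right {L : List (Fin chevD4.rank)} {s : ℕ} (hL : (nw L : GG) ∈ X.G1) (e : wl (invW L) 14 = s)
    (hs1 : 12 ≤ s) (hs2 : s < 24) (hs3 : s ≠ 14) (z : k) {p : ↥(LP X)} {u : GG} (hu : u ∈ U1 X)
    (hg : ∀ w ∈ U1 X, Good X h hN (nw L * (Lam X (p * toP X (uM z)) * w))) :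
    Good X h hN (nw L * (Lam X p * u)) := by
  have hL' : (nw (invW L) : GG) ∈ X.G1 := by rw [nw_invW]; exact inv_mem hL
  have hk := xx14_conj X hL' e hs1 hs2 hs3 (-z)
  rw [nw_invW, inv_inv] at hk
  refine good_shift X h hN (c := fb X (uM (-z))) (c' := (nw L : GG)⁻¹ * fb X (uM (-z)) * nw L) (P := 1)
    (Q := toP X (uM z)) (u₁ := (nw L : GG)⁻¹ * fb X (uM (-z)) * nw L) (u₂ := 1) (fb_mem X _) rfl hk (one_mem _)
    hu ?_ ?_ fun w hw => ?_
  · rw [map_one, one_mul]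
  · rw [mul_one, Lam_toP, ← map_inv]
    congr 1
    apply mat_inj
    rw [mat_uM_inv, neg_neg]
  · rw [one_mul]; exact hg w hw

include h1 in
theorem good_sixty {p : ↥(LP X)} {u : GG} (hu : u ∈ U1 X) : Good X h hN (nw WA * (Lam X p * u)) := by
  have hL : (nw WA : GG) ∈ X.G1 := nw_WA X ▸ fA_mem X _
  have hdec : Decomp X (nw WA) (hP X p.1.2⁻¹) := by rw [nw_WA X]; exact decomp_sixty X _
  have hA : (p.1.1 : M2).det ≠ 0 := by
    rw [← Matrix.GeneralLinearGroup.val_det_apply]; exact Units.ne_zero _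
  have hval : ((hP X p.1.2⁻¹).1.1 : M2) = !![1, 0; 0, (p.1.1 : M2).det⁻¹] := by
    rw [hP_fst, glD_val', map_inv, ← (mem_LP X).1 p.2, Units.val_inv_eq_inv_val,
      ← Matrix.GeneralLinearGroup.val_det_apply, Units.val_one]
    rfl
  obtain ⟨z, hz | hz⟩ := sixty_choice (p.1.1 : M2) hA
  · refine good_left X h hN hL shift_roots.1 (by norm_num) (by norm_num) (by norm_num) z hu fun w hw =>
      good_of_decomp X h hN h1 hdec (goodP_of X ?_ ?_) hw
    · show p.1.2⁻¹ * (1 * p.1.2) = 1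
      rw [one_mul, inv_mul_cancel]
    · rw [val_fst_mul, val_fst_mul, val_toP, hval]; exact hz
  · refine good_right X h hN hL shift_roots.2.1 (by norm_num) (by norm_num) (by norm_num) z hu fun w hw =>
      good_of_decomp X h hN h1 hdec (goodP_of X ?_ ?_) hw
    · show p.1.2⁻¹ * (p.1.2 * 1) = 1
      rw [mul_one, inv_mul_cancel]
    · rw [val_fst_mul, val_fst_mul, val_toP, hval]; exact hz

theorem nw_120 : (nw (WA ++ WB ++ WA) : GG) = n120 X := by
  rw [nw_append, nw_append, nw_WA X, nw_WB X, n120]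

include h1 in
theorem good_onetwenty {p : ↥(LP X)} {u : GG} (hu : u ∈ U1 X) :
    Good X h hN (nw (WA ++ WB ++ WA) * (Lam X p * u)) := by
  have hL : (nw (WA ++ WB ++ WA) : GG) ∈ X.G1 := by
    rw [nw_120 X, n120]; exact mul_mem (mul_mem (fA_mem X _) (fb_mem X _)) (fA_mem X _)
  obtain ⟨D, hD, hD2, a, b, s, ha, hb, hD1⟩ := decomp_onetwenty X p.1.2⁻¹
  rw [← nw_120 X] at hD
  have hdet : (!![0, a; b, s] * (p.1.1 : M2)).det = 1 := by
    rw [← hD1, ← val_fst_mul]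
    refine det_of_snd_one X ?_
    show D.1.2 * p.1.2 = 1
    rw [hD2, inv_mul_cancel]
  obtain ⟨z₁, z₂, hz⟩ := onetwenty_choice (p.1.1 : M2) ha hb hdet
  refine good_left X h hN hL shift_roots.2.2.1 (by norm_num) (by norm_num) (by norm_num) z₁ hu fun w hw =>
    good_right X h hN hL shift_roots.2.2.2 (by norm_num) (by norm_num) (by norm_num) z₂ hw fun w' hw' =>
      good_of_decomp X h hN h1 hD (goodP_of X ?_ ?_) hw'
  · show D.1.2 * (1 * p.1.2 * 1) = 1
    rw [one_mul, mul_one, hD2, inv_mul_cancel]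
  · rw [val_fst_mul, val_fst_mul, val_fst_mul, val_toP, val_toP, hD1]; exact hz

include h1 in
theorem good_oneeighty {p : ↥(LP X)} {u : GG} (hu : u ∈ U1 X) : Good X h hN (nw WD * (Lam X p * u)) := by
  rw [← fD_wM X]
  have key : ∀ (Y : SL2k) (D : ↥(LP X)), Decomp X (n180 X) D → D.1.2 = p.1.2⁻¹ →
      GoodM ((D.1.1 : M2) * (mat Y * (p.1.1 : M2) * mat Y⁻¹)) → Good X h hN (fD X wM * (Lam X p * u)) := by
    intro Y D hD hD2 hm
    refine good_shift X h hN (c := fb X Y) (c' := fb X Y) (P := toP X Y) (Q := toP X Y⁻¹) (u₁ := 1) (u₂ := 1)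
      (fb_mem X _) ?_ (one_mem _) (one_mem _) hu ?_ ?_ fun w hw => good_of_decomp X h hN h1 hD (goodP_of X ?_ ?_) hw
    · rw [mul_assoc, (fb_fD X Y _).eq, inv_mul_cancel_left]
    · rw [Lam_toP, mul_one]
    · rw [Lam_toP, map_inv, mul_one]
    · show D.1.2 * (1 * p.1.2 * 1) = 1
      rw [one_mul, mul_one, hD2, inv_mul_cancel]
    · rw [val_fst_mul, val_fst_mul, val_fst_mul, val_toP, val_toP]; exact hm
  by_cases h2 : (2 : K) = 0
  · have h2k : (2 : k) = 0 := (kF X).subtype_injective (by rw [map_ofNat, map_zero]; exact h2)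
    obtain ⟨δ, r0, hr0, hD⟩ := decomp_even X h2 p.1.2⁻¹
    obtain ⟨D0, -, hD02, hD01⟩ := hD 0 (Or.inl rfl)
    have hdet : ((δ : k) • (p.1.1 : M2)).det = 1 := by
      have e := det_of_snd_one X (p := D0 * p) (show D0.1.2 * p.1.2 = 1 by rw [hD02, inv_mul_cancel])
      rw [val_fst_mul, hD01, show mat (lM (0 : k) : SL2k) = 1 from by
        rw [mat_lM]; ext i j; fin_cases i <;> fin_cases j <;> simp, one_mul, smul_mul_assoc, one_mul] at e
      exact e
    obtain ⟨Y, r, hr, hY⟩ := even_choice h2k (p.1.1 : M2) hr0 hdet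
    obtain ⟨D, hDd, hD2, hD1⟩ := hD r hr
    exact key Y D hDd hD2 (by rw [hD1]; exact hY)
  · have h2k : (2 : k) ≠ 0 := fun e => h2 (by
      have := congrArg (kF X).subtype e
      rwa [map_ofNat, map_zero] at this)
    obtain ⟨D, hD, hD2, a, b, hD1⟩ := decomp_odd X p.1.2⁻¹
    have hdet : (!![0, a; b, 0] * (p.1.1 : M2)).det = 1 := by
      rw [← hD1, ← val_fst_mul]
      exact det_of_snd_one X (show D.1.2 * p.1.2 = 1 by rw [hD2, inv_mul_cancel])
    obtain ⟨Y, hY⟩ := odd_choice h2k (p.1.1 : M2) hdet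
    exact key Y D hD hD2 (by rw [hD1]; exact hY)

theorem end_word {a : List (Fin chevD4.rank)} (ha : a ∈ [[], WB]) :
    InP X (nw a) ∧ (nw a : GG) ∈ X.G1 := by
  simp only [List.mem_cons, List.not_mem_nil, or_false] at ha
  rcases ha with rfl | rfl
  · rw [show (nw [] : GG) = 1 by simp [nw, Struct.nL]]
    exact ⟨InP.of_U1 X (one_mem _), one_mem _⟩
  · rw [nw_WB X, ← Lam_toP]
    exact ⟨InP.of_Lam X _, Lam_mem X _⟩

theorem mono_split {n : GG} {K₀ : List (Fin D4.tw.nO)} (hn : n ∈ X.N1) (ha : Act X.S.ok n (X.S.wpL (X.flatW K₀)))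
    {L : List ℕ} (hL : ∀ r < 24, wK (K₀.map Fin.val) r = wK L r) {w : List (Fin chevD4.rank)}
    (hw : (List.range 24).map (wK L) = (List.range 24).map (wl w)) (hwG : (nw w : GG) ∈ X.G1) :
    n * (nw w : GG)⁻¹ ∈ X.T1 := by
  rw [← X.diag_inf_G1 (D4.relOK X)]
  refine Subgroup.mem_inf.2 ⟨?_, mul_mem (X.N1_le_G1 hn) (inv_mem hwG)⟩
  have e : X.S.wpL (X.flatW K₀) = S4.wpL w := by
    refine Equiv.ext fun r => Fin.ext ?_
    have hr : r.val < 24 := d4_vals.2.1 ▸ r.isLt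
    rw [S4.wpL_val, X.S.wpL_val, X.flatW_val]
    exact (hL r.val hr).trans (List.map_inj_left.1 hw r.val (List.mem_range.2 hr))
  rw [e] at ha
  have hm : n * (nw w : GG)⁻¹ ∈ chevD4.monomialSubgroup K :=
    mul_mem (X.N1_le_mono hn) (inv_mem (S4.nL_mem_mono w))
  obtain ⟨L1, h6, hiff⟩ := S4.exists_act hm
  have h7 := S4.act_mul h6 (S4.act_nL (F := K) w)
  rw [show n * (nw w : GG)⁻¹ * S4.nL K w = n from inv_mul_cancel_right n (nw w)] at h7
  exact hiff.1 (mul_eq_right.1 (S4.act_unique h7 ha))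

theorem not_mem_NU : fA X (wM : SL2K) ∉ NU K := by
  intro hmem
  have h18 := (Subgroup.mem_normalizer_iff.1 hmem (xx 18 (1 : K))).1
    (xx_mem_UD (by norm_num) (by norm_num) (by norm_num) _)
  rw [← nw_WA X, nw_xx WA (by norm_num), show wl WA 18 = 5 by decide +kernel] at h18
  have h5 : (xx 5 ((sg WA 18 : K) * 1) : GG) ∈ chevD4.borelSubgroup K ⊓ chevD4.negUnipotent K :=
    Subgroup.mem_inf.2 ⟨S4.B_le_of (UD_le_pos h18), VD_le_neg (xx_mem_VD (by norm_num) (by norm_num) _)⟩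
  rw [S4.B_inf_V okNeg_D4, Subgroup.mem_bot] at h5
  have := S4.xG_eq_one (lt24 (by norm_num)) h5
  rw [mul_one] at this
  exact sg_ne_zero WA 18 this

include h1 in
theorem good_of_not_mem {g : GG} (hg : g ∈ X.G1) (hP : g ∉ NU K) : Good X h hN g := by
  obtain ⟨P, hPB, hPN, -⟩ := X.exists_bnPair (D4.relOK X)
  obtain ⟨n, hn, hgn⟩ := Cfsg.Lib.BN.bruhat P ⟨g, hg⟩
  obtain ⟨b, hb, c, hc, e⟩ := Cfsg.Lib.BN.mem_dc.1 hgn
  rw [hPB, Subgroup.mem_subgroupOf] at hb hc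
  rw [hPN, Subgroup.mem_subgroupOf] at hn
  have e' : g = (b : GG) * (n : GG) * c := by simpa using congrArg Subtype.val e
  obtain ⟨K₀, -, -, -, hact, -⟩ := X.act_N1 (D4.relOK X) hn
  obtain ⟨L, hL, hLw⟩ := exists_word (K₀.map Fin.val) fun a ha => by
    obtain ⟨i, -, rfl⟩ := List.mem_map.1 ha
    exact Nat.lt_of_lt_of_eq i.isLt (by decide +kernel)
  have hbP : InP X (b : GG) := InP.of_B1 X hb
  have hcP : InP X (c : GG) := InP.of_B1 X hc
  rcases word_cases L hL with ⟨a, ha, hmap⟩ | ⟨a, ha, w, hw, s, hs, hmap⟩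
  · obtain ⟨haP, haG⟩ := end_word X ha
    have hT := mono_split X hn hact hLw hmap haG
    refine absurd ?_ hP
    rw [e', show (n : GG) = (n : GG) * (nw a : GG)⁻¹ * nw a by group]
    exact ((hbP.mul X ((InP.of_T1 X hT).mul X haP)).mul X hcP).mem_NU X
  obtain ⟨haP, haG⟩ := end_word X ha
  obtain ⟨hwP, hwG⟩ := end_word X hw
  have hsG : (nw s : GG) ∈ X.G1 ∧ ∀ q : GG, InP X q → Good X h hN (nw s * q) := by
    simp only [List.mem_cons, List.not_mem_nil, or_false] at hs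
    rcases hs with rfl | rfl | rfl
    · refine ⟨nw_WA X ▸ fA_mem X _, ?_⟩
      rintro q ⟨p, u, hu, rfl⟩; exact good_sixty X h hN h1 hu
    · refine ⟨?_, ?_⟩
      · rw [nw_120 X, n120]; exact mul_mem (mul_mem (fA_mem X _) (fb_mem X _)) (fA_mem X _)
      · rintro q ⟨p, u, hu, rfl⟩; exact good_onetwenty X h hN h1 hu
    · refine ⟨fD_wM X ▸ fD_mem X _, ?_⟩
      rintro q ⟨p, u, hu, rfl⟩; exact good_oneeighty X h hN h1 hu
  have hMG : (nw (a ++ s ++ w) : GG) ∈ X.G1 := by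
    rw [nw_append, nw_append]; exact mul_mem (mul_mem haG hsG.1) hwG
  have hT := mono_split X hn hact hLw hmap hMG
  set τ := (n : GG) * (nw (a ++ s ++ w) : GG)⁻¹ with hτ
  have key := hsG.2 (nw w * (c : GG) * ((b : GG) * τ * nw a))
    ((hwP.mul X hcP).mul X ((hbP.mul X (InP.of_T1 X hT)).mul X haP))
  refine Good.of_conj X h hN (c := ((b : GG) * τ * nw a)⁻¹)
    (inv_mem (mul_mem (mul_mem (hbP.mem_G1 X) (X.T1_le_G1 hT)) haG)) ?_
  convert key using 1
  rw [e', show (n : GG) = τ * nw (a ++ s ++ w) by rw [hτ]; group, nw_append, nw_append]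
  group

include h1 in
theorem good_of_ne_one {g : GG} (hg : g ∈ X.G1) (hne1 : g ≠ 1) : Good X h hN g := by
  haveI := (X.simple1 (D4.relOK X) G2.irr D4.tw_wit D4.tw_opp (by decide +kernel)).1
  set P : Subgroup ↥X.G1 := (NU K).subgroupOf X.G1
  have hne : P ≠ ⊤ := fun e => not_mem_NU X
    (show (⟨fA X wM, fA_mem X _⟩ : ↥X.G1) ∈ P from e ▸ Subgroup.mem_top _)
  have hnot : (⟨g, hg⟩ : ↥X.G1) ∉ P.normalCore := by
    rcases (Subgroup.normalCore_normal P).eq_bot_or_eq_top with e | e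
    · rw [e, Subgroup.mem_bot]; exact fun e' => hne1 (congrArg Subtype.val e')
    · exact absurd (top_le_iff.1 (e ▸ Subgroup.normalCore_le P)) hne
  change ¬ ∀ c, c * (⟨g, hg⟩ : ↥X.G1) * c⁻¹ ∈ P at hnot
  push Not at hnot
  obtain ⟨c, hc⟩ := hnot
  exact Good.of_conj X h hN c.2 (good_of_not_mem X h hN h1 (mul_mem (mul_mem c.2 hg) (inv_mem c.2)) hc)

/-! ### The conclusion -/

theorem exists_parameters : ∃ (t : k) (d : (kF X)ˣ) (a0 : Kˣ), Ell t (d : k) ∧ Nk X a0 = d ∧ a0 ≠ 1 := by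
  by_cases hq : X.q = 2
  · have hc : Fintype.card k = 2 := (card_kF X).trans hq
    haveI : Subsingleton (kF X)ˣ := by
      rw [← Finite.card_le_one_iff_subsingleton, Nat.card_units, Nat.card_eq_fintype_card, hc]
    haveI : Nontrivial Kˣ := by
      rw [← Finite.one_lt_card_iff_nontrivial, Nat.card_units, X.hcard, hq]
      show 1 < 2 ^ 3 - 1
      norm_num
    obtain ⟨a0, ha0⟩ := exists_ne (1 : Kˣ)
    refine ⟨1, 1, a0, ⟨fun r e => ?_, one_ne_zero⟩, Subsingleton.elim _ _, ha0⟩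
    have hr : r ^ 2 = r := hc ▸ FiniteField.pow_card r
    rw [sq] at hr
    rw [hr, one_mul, sub_self, zero_add, Units.val_one] at e
    exact one_ne_zero e
  · obtain ⟨t, d, hd⟩ := exists_ellipticPair (F := k) (by rw [card_kF]; have := X.hq; omega)
    obtain ⟨a0, ha0⟩ := Nk_surjective X (Units.mk0 d hd.hd0)
    refine ⟨t, Units.mk0 d hd.hd0, a0, ⟨hd.noRoot, hd.ht⟩, ha0, fun e => hd.hd1 ?_⟩
    rw [e, map_one] at ha0
    exact (congrArg Units.val ha0).symm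

theorem main (p : ℕ) [Fact p.Prime] [CharP K p] :
    ∃ e : ↥X.G1, ¬ p ∣ orderOf e ∧ ∀ g : ↥X.G1, g ≠ 1 →
      ∃ u v : ↥X.G1, g = (u * e * u⁻¹) * (v * e * v⁻¹) := by
  obtain ⟨t, d, a0, h, hN, h1⟩ := exists_parameters X
  refine ⟨⟨ell X h hN, ell_mem X h hN⟩, ?_, ?_⟩
  · rw [← Subgroup.orderOf_coe]
    have hpow : (ell X h hN) ^ ((X.q + 1) * (X.q - 1) * (X.q ^ 3 - 1)) = 1 := by
      rw [ell, ← map_pow, ← map_one (Lam X)]
      congr 1
      refine Subtype.ext (Prod.ext (Units.ext ?_) ?_)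
      · show (comp2 t (d : k)) ^ ((X.q + 1) * (X.q - 1) * (X.q ^ 3 - 1)) = 1
        rw [pow_mul, pow_mul, ← card_kF X, pow_card_succ h (comp2_trace t (d : k)) (comp2_det t (d : k)),
          smul_pow, one_pow, FiniteField.pow_card_sub_one_eq_one (d : k) d.ne_zero, one_smul, one_pow]
      · show a0 ^ ((X.q + 1) * (X.q - 1) * (X.q ^ 3 - 1)) = 1
        have : a0 ^ (X.q ^ 3 - 1) = 1 := by
          rw [show X.q ^ 3 - 1 = Nat.card Kˣ by rw [Nat.card_units, X.hcard]; rfl]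
          exact pow_card_eq_one'
        rw [mul_comm, pow_mul, this, one_pow]
    intro hp
    have h2 := hp.trans (orderOf_dvd_of_pow_eq_one hpow)
    have hpp : p.Prime := Fact.out
    obtain ⟨n, -, hn⟩ := FiniteField.card K p
    have hq3 : p ∣ X.q ^ 3 := by
      rw [show X.q ^ 3 = Fintype.card K by rw [← Nat.card_eq_fintype_card, X.hcard]; rfl, hn]
      exact dvd_pow_self p n.pos.ne'
    have hpq : p ∣ X.q := hpp.dvd_of_dvd_pow hq3
    have hq1 := X.hq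
    have hsub : ∀ m, 1 ≤ m → p ∣ m → ¬ p ∣ m - 1 := fun m hm hd hd' => by
      have := Nat.dvd_sub hd hd'
      rw [show m - (m - 1) = 1 by omega] at this
      exact hpp.not_dvd_one this
    rcases (Nat.Prime.dvd_mul hpp).1 h2 with h' | h'
    · rcases (Nat.Prime.dvd_mul hpp).1 h' with h'' | h''
      · exact hpp.not_dvd_one ((Nat.dvd_add_right hpq).1 h'')
      · exact hsub _ (by omega) hpq h''
    · exact hsub _ (Nat.one_le_pow _ _ (by omega)) hq3 h'
  · intro g hg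
    obtain ⟨a, b, ⟨c, hc, rfl⟩, ⟨m, hm, rfl⟩, e⟩ :=
      good_of_ne_one X h hN h1 g.2 (fun e => hg (Subtype.ext e))
    exact ⟨⟨c, hc⟩, ⟨m, hm⟩, Subtype.ext e⟩

end Cfsg.Lib.DFourCover
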