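import Cfsg.Agent.Known.DFourCover.Hom
import Cfsg.Agent.Chev.ClosedPsi
import Cfsg.Agent.Chev.More

/-! The radical of the parabolic subgroup of the fixed fundamental root of a triality group, its normaliser
and the opposite radical. -/

set_option autoImplicit false
set_option linter.unusedSectionVars false

open Cfsg.Lie

namespace Cfsg.Lib.DFourCover

open Cfsg.Lib.Chev
open Cfsg.Lib.GTwoOdd (hom_ext dM mat_dM dconj mat_dconj dl dl_val glD toG toG_val dl_toG dl_glD)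

variable {K : Type*} [Field K] [Fintype K]

local notation "GG" => GL chevD4.Idx K

theorem coef_mul_xG {D : ChevalleyDatum} {C : Cert} {T : List (List ℤ)} {F : Type*} [Field F] (S : Struct D C)
    (hT : okHt D T = true) {r : Fin D.nroots} (hr : D.nroots / 2 ≤ r.val) (hh : hgt D T r.val = 1) {a : GL D.Idx F}
    (ha : a ∈ S.UPsi F (fun s => s ≠ r)) (t : F) : S.coef r (a * S.ok.xG r.val t) = t := by
  have hu : ∀ {v : GL D.Idx F}, v ∈ D.posUnipotent F → v ∈ S.Uh T F 1 := fun hv => by rwa [S.Uh_one hT]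
  have h1 : S.coef r a = 0 := by
    let Z : Subgroup (GL D.Idx F) :=
      { carrier := {v | v ∈ S.Uh T F 1 ∧ S.coef r v = 0}
        one_mem' := ⟨one_mem _, S.coef_one _⟩
        mul_mem' := fun {x y} hx hy => ⟨mul_mem hx.1 hy.1, by
          rw [S.coef_mul hT le_rfl r hh.le hx.1 hy.1, hx.2, hy.2, add_zero]⟩
        inv_mem' := fun {x} hx => ⟨inv_mem hx.1, by
          rw [S.coef_inv hT le_rfl r hh.le hx.1, hx.2, neg_zero]⟩ }
    refine ((show S.UPsi F (fun s => s ≠ r) ≤ Z from (Subgroup.closure_le _).2 ?_) ha).2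
    rintro g ⟨s, u, hs, hne, rfl⟩
    refine ⟨hu (S.xG_mem_U hs s.isLt u), ?_⟩
    rw [S.coef_xG r s.isLt, if_neg fun e => hne (Fin.ext e)]
  rw [S.coef_mul hT le_rfl r hh.le (hu (S.UPsi_le _ ha)) (hu (S.xG_mem_U hr r.isLt t)), h1,
    S.coef_xG r r.isLt, if_pos rfl, zero_add]

/-! ### Monomial elements -/

/-- The image of a root under a word. -/
noncomputable def wl (L : List (Fin chevD4.rank)) (r : ℕ) : ℕ := D4.cert.wL (L.map Fin.val) r

/-- The sign of a word at a root. -/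
noncomputable def sg (L : List (Fin chevD4.rank)) (r : ℕ) : ℤ := D4.cert.sgnL (L.map Fin.val) r

theorem sg_unit (L : List (Fin chevD4.rank)) (r : ℕ) : sg L r = 1 ∨ sg L r = -1 := by
  induction L with
  | nil => exact Or.inl rfl
  | cons b L ih =>
    have e : sg (b :: L) r = D4.cert.eta b.val (D4.cert.wL (L.map Fin.val) r) * sg L r := by
      rw [sg, List.map_cons, Cert.sgnL_cons]; rfl
    rcases Ok.eta_cases D4.cert b.val (D4.cert.wL (L.map Fin.val) r) with h | h <;>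
      rcases ih with h' | h' <;> rw [e, h, h'] <;> norm_num

theorem sg_ne_zero (L : List (Fin chevD4.rank)) (r : ℕ) : (sg L r : K) ≠ 0 := by
  rcases sg_unit L r with h | h <;> simp [h]

theorem sg_char_two (h2 : (2 : K) = 0) (L : List (Fin chevD4.rank)) (r : ℕ) : (sg L r : K) = 1 := by
  rcases sg_unit L r with h | h <;> simp [h]
  linear_combination -h2

/-- The representative of a word. -/
noncomputable def nw (L : List (Fin chevD4.rank)) : GG := S4.nL K L

theorem nw_append (L M : List (Fin chevD4.rank)) : (nw (L ++ M) : GG) = nw L * nw M := by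
  simp [nw, Struct.nL]

theorem wl_lt (L : List (Fin chevD4.rank)) {r : ℕ} (hr : r < 24) : wl L r < 24 :=
  d4_vals.2.1 ▸ S4.wL_lt L (lt24 hr)

theorem nw_xx (L : List (Fin chevD4.rank)) {r : ℕ} (hr : r < 24) (t : K) :
    nw L * xx r t * (nw L : GG)⁻¹ = xx (wl L r) ((sg L r : K) * t) :=
  S4.nL_conj L (lt24 hr) t

theorem nw_xx' (L : List (Fin chevD4.rank)) {r r' : ℕ} (hr : r < 24) (e : wl L r = r') (t : K) :
    nw L * xx r ((sg L r : K) * t) * (nw L : GG)⁻¹ = xx r' t := by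
  rw [nw_xx L hr, e, ← mul_assoc]
  refine congrArg (xx r') ?_
  rcases sg_unit L r with h | h <;> simp [h]

/-- The word of an inverse. -/
def invW (L : List (Fin chevD4.rank)) : List (Fin chevD4.rank) := L.reverse.flatMap fun i => [i, i, i]

theorem nw_invW : ∀ L : List (Fin chevD4.rank), (nw (invW L) : GG) = (nw L)⁻¹
  | [] => by simp [invW, nw, Struct.nL]
  | i :: L => by
    have h4 : (nw [i] : GG) * nw [i] * nw [i] * nw [i] = 1 := by
      rw [nw, ← fi_wM, ← map_mul, ← map_mul, ← map_mul, ← map_one (fi i)]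
      refine congrArg (fi i) ?_
      apply mat_inj
      rw [mat_one]
      ext a b
      fin_cases a <;> fin_cases b <;> simp [mat_mul, mat_wM, Matrix.mul_apply, Fin.sum_univ_two]
    have e : invW (i :: L) = invW L ++ ([i] ++ [i] ++ [i]) := by simp [invW]
    rw [e, nw_append, nw_append, nw_append, nw_invW L, show i :: L = [i] ++ L from rfl, nw_append, mul_inv_rev]
    refine congrArg ((nw L : GG)⁻¹ * ·) ?_
    exact (inv_eq_of_mul_eq_one_left h4).symm

/-- The word of the moved class. -/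
def WA : List (Fin chevD4.rank) := [ia, ic, ie]
/-- The word of the fixed class. -/
def WB : List (Fin chevD4.rank) := [ib]
/-- The word carrying the moved class to the class of height three. -/
def WM : List (Fin chevD4.rank) := WA ++ WB
/-- The word of the reflection in the class of height three. -/
def WD : List (Fin chevD4.rank) := WM ++ WA ++ invW WM
/-- The word of the central element. -/
def W0 : List (Fin chevD4.rank) := WB ++ WD

theorem W0_roots : (List.range 24).map (wl W0) = (List.range 24).map (fun r => 23 - r) := by decide +kernel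

theorem W0_root {r : ℕ} (hr : r < 24) : wl W0 r = 23 - r :=
  List.map_inj_left.1 W0_roots r (List.mem_range.2 hr)

theorem cc_neg : (List.range 24).map (fun r => cc (23 - r)) =
    (List.range 24).map (fun r => (-(cc r).1, -(cc r).2.1, -(cc r).2.2.1, -(cc r).2.2.2)) := by decide +kernel

variable (X : XD K)

local notation "k" => kF X
local notation "SL2K" => Matrix.SpecialLinearGroup (Fin 2) K
local notation "SL2k" => Matrix.SpecialLinearGroup (Fin 2) (kF X)
local notation "GL2k" => GL (Fin 2) (kF X)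

theorem nw_WA : (nw WA : GG) = fA X (wM : SL2K) := (fA_wM X).symm
theorem nw_WB : (nw WB : GG) = fb X (wM : SL2k) := (fb_wM X).symm

theorem nw_WM_mem : (nw WM : GG) ∈ X.G1 := by
  rw [WM, nw_append, nw_WA X, nw_WB X]; exact mul_mem (fA_mem X _) (fb_mem X _)

/-- The `SL₂` of the class of height three. -/
noncomputable def fD : SL2K →* GG := (MulAut.conj (nw WM : GG)).toMonoidHom.comp (fA X)

theorem fD_apply (A : SL2K) : fD X A = nw WM * fA X A * (nw WM : GG)⁻¹ := rfl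

theorem fD_mem (A : SL2K) : fD X A ∈ X.G1 :=
  mul_mem (mul_mem (nw_WM_mem X) (fA_mem X A)) (inv_mem (nw_WM_mem X))

theorem fD_wM : fD X (wM : SL2K) = nw WD := by
  rw [fD_apply, WD, nw_append, nw_append, nw_invW, nw_WA X]

theorem nw_triple (L : List (Fin chevD4.rank)) {a b c : ℕ} (ha : a < 24) (hb : b < 24) (hc : c < 24) (t u v : K) :
    nw L * (xx a t * xx b u * xx c v) * (nw L : GG)⁻¹ =
      xx (wl L a) ((sg L a : K) * t) * xx (wl L b) ((sg L b : K) * u) * xx (wl L c) ((sg L c : K) * v) := by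
  rw [← nw_xx L ha, ← nw_xx L hb, ← nw_xx L hc]; group

theorem fD_uM (t : K) : fD X (uM t) = xx (wl WM 18) ((sg WM 18 : K) * t) *
    xx (wl WM 13) ((sg WM 13 : K) * X.f t) * xx (wl WM 12) ((sg WM 12 : K) * X.f (X.f t)) := by
  rw [fD_apply, fA_uM, nw_triple WM (by norm_num) (by norm_num) (by norm_num)]

theorem fD_lM (t : K) : fD X (lM t) = xx (wl WM 5) ((sg WM 5 : K) * t) *
    xx (wl WM 10) ((sg WM 10 : K) * X.f t) * xx (wl WM 11) ((sg WM 11 : K) * X.f (X.f t)) := by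
  rw [fD_apply, fA_lM, nw_triple WM (by norm_num) (by norm_num) (by norm_num)]

theorem WM_root {r : ℕ} (hr : r ∈ [18, 13, 12, 5, 10, 11]) : wl WM r ∈ [17, 20, 21, 2, 3, 6] := by
  revert r; decide +kernel

theorem D_commute : ∀ r ∈ [17, 20, 21, 2, 3, 6], ∀ s ∈ [14, 9], r < 24 ∧ s < 24 ∧
    TwDat.commOK chevD4 r s = true := by decide +kernel

theorem fb_commute_D {r : ℕ} (hr : r ∈ [17, 20, 21, 2, 3, 6]) (u : K) (Y : SL2k) :
    Commute (fb X Y) (xx r u) := by
  refine (hom_commute (fun t => ?_) (fun t => ?_) Y).symm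
  · rw [fb_uM]
    obtain ⟨a, b, c⟩ := D_commute r hr 14 (by simp)
    exact commute_xx a b c _ _
  · rw [fb_lM]
    obtain ⟨a, b, c⟩ := D_commute r hr 9 (by simp)
    exact commute_xx a b c _ _

theorem fb_fD (Y : SL2k) (A : SL2K) : Commute (fb X Y) (fD X A) := by
  refine hom_commute (fun t => ?_) (fun t => ?_) A
  · rw [fD_uM]
    exact (((fb_commute_D X (WM_root (by simp)) _ Y)).mul_right (fb_commute_D X (WM_root (by simp)) _ Y)).mul_right
      (fb_commute_D X (WM_root (by simp)) _ Y)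
  · rw [fD_lM]
    exact (((fb_commute_D X (WM_root (by simp)) _ Y)).mul_right (fb_commute_D X (WM_root (by simp)) _ Y)).mul_right
      (fb_commute_D X (WM_root (by simp)) _ Y)

/-- The representative of the central element of the Weyl group. -/
noncomputable def n0 : GG := nw W0

theorem n0_eq : (n0 : GG) = fb X (wM : SL2k) * fD X (wM : SL2K) := by
  rw [fD_wM, n0, W0, nw_append, nw_WB X]

theorem n0_mem : (n0 : GG) ∈ X.G1 := n0_eq X ▸ mul_mem (fb_mem X _) (fD_mem X _)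

theorem n0_fb (Y : SL2k) : (n0 : GG)⁻¹ * fb X Y * n0 = fb X ((wM : SL2k)⁻¹ * Y * wM) := by
  rw [map_mul, map_mul, map_inv, n0_eq X, mul_inv_rev]
  have h1 : fb X Y * fb X (wM : SL2k) * fD X (wM : SL2K) = fD X (wM : SL2K) * (fb X Y * fb X wM) := by
    rw [← map_mul]; exact (fb_fD X _ _).eq
  calc (fD X (wM : SL2K))⁻¹ * (fb X wM)⁻¹ * fb X Y * (fb X wM * fD X wM)
      = (fD X (wM : SL2K))⁻¹ * (fb X wM)⁻¹ * (fb X Y * fb X wM * fD X wM) := by simp only [mul_assoc]
    _ = (fD X (wM : SL2K))⁻¹ * ((fb X wM)⁻¹ * fD X wM) * (fb X Y * fb X wM) := by rw [h1]; simp only [mul_assoc]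
    _ = _ := by rw [← map_inv (fb X), (fb_fD X _ _).eq, inv_mul_cancel_left, mul_assoc, map_inv]

theorem chi_neg {r : ℕ} (hr : r < 24) (a b : Kˣ) : chi X (23 - r) a b = (chi X r a b)⁻¹ := by
  have e := List.map_inj_left.1 cc_neg r (List.mem_range.2 hr)
  simp only [chi, e, zpow_neg, mul_inv]

theorem n0_torus {g : GG} (hg : g ∈ X.T1) : (n0 : GG)⁻¹ * g * n0 = g⁻¹ := by
  have hd : g ∈ chevD4.diagonalSubgroup K := X.T1_le_diag hg
  have hm : (n0 : GG)⁻¹ * g * n0 ∈ chevD4.diagonalSubgroup K := by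
    have := S4.norm_diag (inv_mem (S4.nL_mem_mono (F := K) W0)) hd
    simpa [n0, nw] using this
  refine eq_inv_of_mul_eq_one_left (X.diag_eq_one_of_centralizes (mul_mem hm hd) fun s hs => ?_)
  have hs24 : s < 24 := d4_vals.2.1 ▸ hs
  obtain ⟨a, b, rfl⟩ := exists_tor X hg
  set b' := Units.map (kF X).subtype.toMonoidHom b
  show (n0⁻¹ * tor X a b' * n0 * tor X a b') * xx s 1 * (n0⁻¹ * tor X a b' * n0 * tor X a b')⁻¹ = xx s 1
  rw [show (n0⁻¹ * tor X a b' * n0 * tor X a b') * xx s 1 * (n0⁻¹ * tor X a b' * n0 * tor X a b' : GG)⁻¹ =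
    n0⁻¹ * (tor X a b' * (n0 * (tor X a b' * xx s 1 * (tor X a b')⁻¹) * n0⁻¹) * (tor X a b')⁻¹) * n0 by group,
    tor_conj X hs24, n0, nw_xx W0 hs24, W0_root hs24, tor_conj X (by omega), chi_neg X hs24,
    Units.val_inv_eq_inv_val, mul_one, mul_left_comm, inv_mul_cancel₀ (Units.ne_zero _),
    show (sg W0 s : K) * 1 = (sg W0 s : K) * (1 : K) from rfl, ← W0_root hs24, ← nw_xx W0 hs24]
  group

/-! ### The radical -/

/-- The positive roots of the radical in type `D₄`. -/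
def Pu (r : Fin chevD4.nroots) : Prop := r.val ≠ 14

/-- The radical in type `D₄`. -/
noncomputable def UD (K : Type*) [Field K] : Subgroup (GL chevD4.Idx K) := S4.UPsi K Pu

theorem xx_mem_UD {r : ℕ} (h1 : 12 ≤ r) (h2 : r < 24) (h3 : r ≠ 14) (t : K) : (xx r t : GG) ∈ UD K :=
  S4.mem_UPsi (r := ⟨r, lt24 h2⟩) (by rw [d4_vals.2.2]; exact h1) h3 t

theorem UD_le_pos : UD K ≤ chevD4.posUnipotent K := S4.UPsi_le _

theorem UD_gen {H : Subgroup GG} (h : ∀ r, 12 ≤ r → r < 24 → r ≠ 14 → ∀ t : K, xx r t ∈ H) : UD K ≤ H := by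
  refine (Subgroup.closure_le _).2 ?_
  rintro g ⟨r, t, h1, h3, rfl⟩
  exact h r (d4_vals.2.2 ▸ h1) (d4_vals.2.1 ▸ r.isLt) h3 t

theorem terms_rad : ((List.range 24).filter fun r => decide (12 ≤ r) && decide (r ≠ 14)).all (fun r =>
    [14, 9].all fun s => decide (r ≠ s) && decide (r ≠ chevD4.neg s) &&
      (chevD4.commTerms s r).all fun q => decide (12 ≤ q.1) && decide (q.1 < 24) && decide (q.1 ≠ 14)) = true := by
  decide +kernel

theorem xx_conj_UD {s r : ℕ} (hs : s ∈ [14, 9]) (h1 : 12 ≤ r) (h2 : r < 24) (h3 : r ≠ 14) (u t : K) :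
    (xx s u : GG)⁻¹ * xx r t * xx s u ∈ UD K := by
  have h := terms_rad
  simp only [List.all_eq_true, List.mem_filter, List.mem_range, Bool.and_eq_true, decide_eq_true_eq] at h
  obtain ⟨⟨a, b⟩, c⟩ := h r ⟨h2, h1, h3⟩ s hs
  have hs24 : s < 24 := by simp at hs; omega
  have e := S4.ok.commRel S4.chain S4.base (lt24 hs24) (lt24 h2) a b u t
  rw [mul_assoc, show (xx r t * xx s u : GG) = xx s u * xx r t * S4.ok.wG (chevD4.commWord K s r u t) from e,
    ← mul_assoc, ← mul_assoc, inv_mul_cancel, one_mul]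
  refine mul_mem (xx_mem_UD h1 h2 h3 t) (list_prod_mem fun g hg => ?_)
  obtain ⟨q, hq, rfl⟩ := List.mem_map.1 hg
  obtain ⟨q', hq', rfl⟩ := List.mem_map.1 hq
  obtain ⟨⟨d1, d2⟩, d3⟩ := c q' hq'
  exact xx_mem_UD d1 d2 d3 _

/-- The normaliser of the radical. -/
noncomputable def NU (K : Type*) [Field K] : Subgroup (GL chevD4.Idx K) :=
  Subgroup.normalizer (UD K : Set (GL chevD4.Idx K))

theorem mem_NU {g : GG} (h₁ : ∀ r, 12 ≤ r → r < 24 → r ≠ 14 → ∀ t : K, g * xx r t * g⁻¹ ∈ UD K)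
    (h₂ : ∀ r, 12 ≤ r → r < 24 → r ≠ 14 → ∀ t : K, g⁻¹ * xx r t * g ∈ UD K) : g ∈ NU K := by
  have key : ∀ c : GG, (∀ r, 12 ≤ r → r < 24 → r ≠ 14 → ∀ t : K, c * xx r t * c⁻¹ ∈ UD K) →
      ∀ u ∈ UD K, c * u * c⁻¹ ∈ UD K := fun c hc u hu => by
    have hle : UD K ≤ (UD K).comap (MulAut.conj c).toMonoidHom := UD_gen fun r a b d t => hc r a b d t
    exact hle hu
  refine Subgroup.mem_normalizer_iff.2 fun u => ⟨key g h₁ u, fun hu => ?_⟩
  have := key g⁻¹ (by simpa using h₂) _ hu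
  simpa [mul_assoc] using this

theorem UD_le_NU : UD K ≤ NU K := Subgroup.le_normalizer

theorem xx_mem_NU {s : ℕ} (hs : s ∈ [14, 9]) (u : K) : (xx s u : GG) ∈ NU K := by
  refine mem_NU (fun r a b c t => ?_) fun r a b c t => xx_conj_UD hs a b c u t
  have := xx_conj_UD (s := s) hs a b c (-u) t
  rwa [← xx_inv, inv_inv] at this

theorem diag_le_NU : chevD4.diagonalSubgroup K ≤ NU K := by
  have key : ∀ g ∈ chevD4.diagonalSubgroup K, ∀ r, 12 ≤ r → r < 24 → r ≠ 14 → ∀ t : K,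
      g * xx r t * g⁻¹ ∈ UD K := fun g hg r a b c t => by
    obtain ⟨-, d, -, e⟩ := S4.act_diag hg ⟨r, lt24 b⟩
    rw [show xx r t = S4.ok.xG r t from rfl, (e t).1]
    exact xx_mem_UD a b c _
  refine fun g hg => mem_NU (key g hg) fun r a b c t => ?_
  simpa using key g⁻¹ (inv_mem hg) r a b c t

theorem fb_mem_NU (Y : SL2k) : fb X Y ∈ NU K :=
  hom_mem (fun t => by rw [fb_uM]; exact xx_mem_NU (by simp) _) (fun t => by rw [fb_lM]; exact xx_mem_NU (by simp) _) Y

theorem Lam_mem_NU (p : ↥(LP X)) : Lam X p ∈ NU K := by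
  rw [Lam_apply]
  refine mul_mem (fb_mem_NU X _) (diag_le_NU ?_)
  rw [hA_apply, tor, S4.ok.diagonalSubgroup_eq]
  exact ⟨_, rfl⟩

/-- The radical of the twisted group. -/
noncomputable def U1 : Subgroup GG := UD K ⊓ X.G1

theorem U1_le_G1 : U1 X ≤ X.G1 := inf_le_right

theorem conj_U1 {g : GG} (hN : g ∈ NU K) (hG : g ∈ X.G1) {u : GG} (hu : u ∈ U1 X) : g * u * g⁻¹ ∈ U1 X :=
  Subgroup.mem_inf.2 ⟨(Subgroup.mem_normalizer_iff.1 hN u).1 (Subgroup.mem_inf.1 hu).1,
    mul_mem (mul_mem hG (Subgroup.mem_inf.1 hu).2) (inv_mem hG)⟩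

theorem conj_U1' {g : GG} (hN : g ∈ NU K) (hG : g ∈ X.G1) {u : GG} (hu : u ∈ U1 X) : g⁻¹ * u * g ∈ U1 X := by
  simpa using conj_U1 X (inv_mem hN) (inv_mem hG) hu

theorem Lam_conj (p : ↥(LP X)) {u : GG} (hu : u ∈ U1 X) : Lam X p * u * (Lam X p)⁻¹ ∈ U1 X :=
  conj_U1 X (Lam_mem_NU X p) (Lam_mem X p) hu

theorem Lam_conj' (p : ↥(LP X)) {u : GG} (hu : u ∈ U1 X) : (Lam X p)⁻¹ * u * Lam X p ∈ U1 X :=
  conj_U1' X (Lam_mem_NU X p) (Lam_mem X p) hu

/-! ### The parabolic subgroup -/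

/-- The parabolic subgroup, as the set of products of the Levi complement and the radical. -/
def InP (g : GG) : Prop := ∃ p : ↥(LP X), ∃ u ∈ U1 X, g = Lam X p * u

theorem InP.mem_NU {g : GG} (hg : InP X g) : g ∈ NU K := by
  obtain ⟨p, u, hu, rfl⟩ := hg
  exact mul_mem (Lam_mem_NU X p) (UD_le_NU hu.1)

theorem InP.mem_G1 {g : GG} (hg : InP X g) : g ∈ X.G1 := by
  obtain ⟨p, u, hu, rfl⟩ := hg
  exact mul_mem (Lam_mem X p) hu.2

theorem InP.of_U1 {u : GG} (hu : u ∈ U1 X) : InP X u := ⟨1, u, hu, by rw [map_one, one_mul]⟩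

theorem InP.of_Lam (p : ↥(LP X)) : InP X (Lam X p) := ⟨p, 1, one_mem _, (mul_one _).symm⟩

theorem InP.mul {g h : GG} (hg : InP X g) (hh : InP X h) : InP X (g * h) := by
  obtain ⟨p, u, hu, rfl⟩ := hg
  obtain ⟨r, v, hv, rfl⟩ := hh
  refine ⟨p * r, (Lam X r)⁻¹ * u * Lam X r * v, mul_mem (Lam_conj' X r hu) hv, ?_⟩
  rw [map_mul]; group

theorem InP.of_T1 {g : GG} (hg : g ∈ X.T1) : InP X g := by
  obtain ⟨a, b, rfl⟩ := T1_Lam X hg; exact InP.of_Lam X _

theorem pos_decomp {g : GG} (hg : g ∈ chevD4.posUnipotent K) (hG : g ∈ X.G1) :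
    ∃ r : kF X, ∃ u ∈ U1 X, g = Lam X (toP X (uM r)) * u := by
  have hg' := hg
  rw [S4.posUnipotent_eq] at hg'
  obtain ⟨a, ha, b, hb, rfl⟩ := S4.split_Ugen (fun r : Fin chevD4.nroots => r.val = 14)
    (chevD4.nroots - chevD4.nroots / 2) (chevD4.nroots / 2) (by omega) le_rfl g hg'
  have haU : a ∈ UD K := by
    refine (S4.UPsi_mono (Ψ' := Pu) fun r _ h => ?_) ha
    exact h
  obtain ⟨t, rfl⟩ : ∃ t : K, b = xx 14 t := by
    have hle : S4.UPsi K (fun r : Fin chevD4.nroots => r.val = 14) ≤ (S4.xHom K 14).range := by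
      refine (Subgroup.closure_le _).2 ?_
      rintro g ⟨r, t, -, h, rfl⟩
      exact ⟨Multiplicative.ofAdd t, by rw [h]; rfl⟩
    obtain ⟨t, ht⟩ := hle hb
    exact ⟨t.toAdd, ht.symm⟩
  have hw : a * xx 14 t = xx 14 t * ((xx 14 t)⁻¹ * a * xx 14 t) := by group
  have hconj : (xx 14 t : GG)⁻¹ * a * xx 14 t ∈ UD K := by
    simpa using (Subgroup.mem_normalizer_iff.1 (inv_mem (xx_mem_NU (by simp) t)) a).1 haU
  -- the parameter is fixed
  have h14 : 14 < chevD4.nroots := lt24 (by norm_num)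
  have hU := hg
  rw [← S4.Uh_one (T := D4.htTab) D4.ht] at hU
  have hht : hgt chevD4 D4.htTab 14 = 1 := by decide +kernel
  have hcoef : S4.coef ⟨14, h14⟩ (a * xx 14 t) = t :=
    coef_mul_xG S4 D4.ht (by rw [d4_vals.2.2]; norm_num) hht
      (S4.UPsi_mono (fun r _ h => fun e => h (congrArg Fin.val e)) haU) t
  have ht : X.f t = t := by
    have h := (X.coef_sig (m := 1) le_rfl hU).2 ⟨14, h14⟩ ⟨14, h14⟩
      (show 14 = D4.tw.G.rho chevD4.rank 14 by decide +kernel) hht.le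
    rw [show X.sig (a * xx 14 t) = a * xx 14 t from X.G1_le_Fx hG,
      show X.S.coef ⟨14, h14⟩ (a * xx 14 t) = t from hcoef, orb_eps X 14 (by simp), one_mul] at h
    exact h.symm
  let t' : k := ⟨t, ht⟩
  have e14 : xx 14 t = Lam X (toP X (uM t')) := by rw [Lam_toP, fb_uM]
  have hx : xx 14 t ∈ X.G1 := e14 ▸ Lam_mem X _
  have ha' : a ∈ X.G1 := by simpa using mul_mem hG (inv_mem hx)
  refine ⟨t', (xx 14 t)⁻¹ * a * xx 14 t,
    Subgroup.mem_inf.2 ⟨hconj, mul_mem (mul_mem (inv_mem hx) ha') hx⟩, ?_⟩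
  rw [← e14]; exact hw

theorem InP.of_pos {g : GG} (hg : g ∈ chevD4.posUnipotent K) (hG : g ∈ X.G1) : InP X g := by
  obtain ⟨r, u, hu, e⟩ := pos_decomp X hg hG
  exact ⟨_, u, hu, e⟩

theorem InP.of_B1 {g : GG} (hg : g ∈ X.B1) : InP X g := by
  obtain ⟨u, hu, t, ht, rfl⟩ := X.B1_decomp hg
  exact InP.mul X (InP.of_pos X hu.1 hu.2) (InP.of_T1 X ht)

/-! ### The opposite radical -/

/-- The opposite radical in type `D₄`. -/
noncomputable def VD (K : Type*) [Field K] : Subgroup (GL chevD4.Idx K) :=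
  (UD K).map (MulAut.conj (n0 : GL chevD4.Idx K)).toMonoidHom

theorem mem_VD {v : GG} : v ∈ VD K ↔ ∃ u ∈ UD K, n0 * u * (n0 : GG)⁻¹ = v := Subgroup.mem_map

theorem xx_mem_VD {s : ℕ} (h1 : s < 12) (h2 : s ≠ 9) (t : K) : (xx s t : GG) ∈ VD K := by
  refine mem_VD.2 ⟨xx (23 - s) ((sg W0 (23 - s) : K) * t), xx_mem_UD (by omega) (by omega) (by omega) _, ?_⟩
  exact nw_xx' W0 (by omega) (by rw [W0_root (by omega)]; omega) t

theorem VD_le_neg : VD K ≤ chevD4.negUnipotent K := by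
  refine Subgroup.map_le_iff_le_comap.2 (UD_gen fun r h1 h2 h3 t => ?_)
  show n0 * xx r t * (n0 : GG)⁻¹ ∈ chevD4.negUnipotent K
  rw [n0, nw_xx W0 h2, W0_root h2]
  exact Subgroup.subset_closure ⟨_, _, S4.isNeg_iff.2 (by rw [d4_vals.2.2]; omega), S4.ok.val_xG _ _⟩

/-- The opposite radical of the twisted group. -/
noncomputable def V1 : Subgroup GG := VD K ⊓ X.G1

theorem mem_V1 {v : GG} (hv : v ∈ V1 X) : ∃ u ∈ U1 X, n0 * u * (n0 : GG)⁻¹ = v := by
  obtain ⟨h1, h2⟩ := hv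
  obtain ⟨u, hu, rfl⟩ := mem_VD.1 h1
  refine ⟨u, ⟨hu, ?_⟩, rfl⟩
  have := mul_mem (mul_mem (inv_mem (n0_mem X)) h2) (n0_mem X)
  simpa [mul_assoc] using this

theorem sig_UD {u : GG} (hu : u ∈ UD K) : X.sig u ∈ UD K := by
  refine X.sig_UPsi Pu (fun r s hs => ?_) hu
  have h : ((List.range 24).map fun r => decide (D4.tw.G.rho chevD4.rank r = 14)) =
      (List.range 24).map fun r => decide (r = 14) := by decide +kernel
  have h' := List.map_inj_left.1 h r.val (List.mem_range.2 (d4_vals.2.1 ▸ r.isLt))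
  simp only [decide_eq_decide] at h'
  show s.val ≠ 14 ↔ r.val ≠ 14
  rw [hs]
  exact not_congr h'

theorem sig_VD {v : GG} (hv : v ∈ VD K) : X.sig v ∈ VD K := by
  obtain ⟨u, hu, rfl⟩ := mem_VD.1 hv
  refine mem_VD.2 ⟨X.sig u, sig_UD X hu, ?_⟩
  rw [map_mul, map_mul, map_inv, show X.sig n0 = (n0 : GG) from X.G1_le_Fx (n0_mem X)]

/-- An element of the twisted group in the big cell of the parabolic subgroup has its factors in the twisted group. -/
theorem split_fixed {g v w : GG} {p : ↥(LP X)} (hg : g ∈ X.G1) (hv : v ∈ VD K) (hw : w ∈ UD K)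
    (e : g = v * Lam X p * w) : v ∈ V1 X ∧ w ∈ U1 X := by
  have hp : X.sig (Lam X p) = Lam X p := X.G1_le_Fx (Lam_mem X p)
  have e1 : X.sig v * Lam X p * X.sig w = v * Lam X p * w := by
    rw [← e]
    conv_lhs => rw [← hp, ← map_mul, ← map_mul, ← e]
    exact X.G1_le_Fx hg
  have e2 : v⁻¹ * X.sig v = Lam X p * (w * (X.sig w)⁻¹) * (Lam X p)⁻¹ := by
    rw [show v⁻¹ * X.sig v = v⁻¹ * (X.sig v * Lam X p * X.sig w) * (X.sig w)⁻¹ * (Lam X p)⁻¹ by group, e1]
    group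
  have h1 : v⁻¹ * X.sig v ∈ chevD4.borelSubgroup K ⊓ chevD4.negUnipotent K := by
    refine Subgroup.mem_inf.2 ⟨?_, VD_le_neg (mul_mem (inv_mem hv) (sig_VD X hv))⟩
    rw [e2]
    exact S4.B_le_of (UD_le_pos ((Subgroup.mem_normalizer_iff.1 (Lam_mem_NU X p) _).1
      (mul_mem hw (inv_mem (sig_UD X hw)))))
  rw [S4.B_inf_V okNeg_D4, Subgroup.mem_bot, inv_mul_eq_one] at h1
  have hvG : v ∈ X.G1 := by
    obtain ⟨u, hu, rfl⟩ := mem_VD.1 hv
    have hn : X.sig n0 = (n0 : GG) := X.G1_le_Fx (n0_mem X)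
    rw [map_mul, map_mul, map_inv, hn] at h1
    have hu' : X.sig u = u := by simpa using h1.symm
    refine mul_mem (mul_mem (n0_mem X) ?_) (inv_mem (n0_mem X))
    have : u ∈ chevD4.posUnipotent K ⊓ X.G1 := by
      rw [X.U_inf_G1]; exact ⟨UD_le_pos hu, hu'⟩
    exact this.2
  refine ⟨Subgroup.mem_inf.2 ⟨hv, hvG⟩, Subgroup.mem_inf.2 ⟨hw, ?_⟩⟩
  have : w = (v * Lam X p)⁻¹ * g := by rw [e]; group
  rw [this]
  exact mul_mem (inv_mem (mul_mem hvG (Lam_mem X p))) hg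

end Cfsg.Lib.DFourCover
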